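import Cfsg.Agent.Omega.FFBr.Act
import Cfsg.Agent.MinSimple.VModule

/-!
# NO-3S, SymBig, stage `-1`: the FF step ((1)(c) and (2) of helper28's bb #21330), definitions

* `Stp V Q T R M0 D E M h Rel` : the situation: `R` is minimal over `T` outside `M0`, `D ≤ V` is centralised by `R`,
  `C_R(u) ≤ M0` for `u ∈ V - D`, `M = ⟨h^R⟩ D`, `[h, T] ≤ D`, `[h, O₂(R)] ≤ E ≤ D`, every `B ∈ Rel` (the groups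
  `A₀ = C_A(V)`) satisfies `|M : C_M(B)| ≤ |B : B ∩ O₂(R)|`, one of them is not in `O₂(R)`, and an element `u ∈ M` which
  is centralised by all `B ∈ Rel` is in `V` or has `{[q,u]} = V` (LEMMA Y).
* `Out …` : the conclusion: `R` acts on `M / D` as (a group with normal subgroup) `SL₂(q)` on the natural module and
  `(V ∩ M) / D` is the line fixed by the images of the `B ∈ Rel`.
-/

set_option autoImplicit false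

namespace Cfsg.Agent.Omega.NO3S.SN2.FF

open Subgroup Cfsg.Agent.Lib.SL2Mat
open Cfsg.Agent.ZN
open Cfsg.Agent.Omega.NatPair (ap)

universe u

/-- The situation of the FF step. -/
structure Stp {G : Type u} [Group G] (V Q T R M0 D E M : Subgroup G) (h : G) (Rel : Set (Subgroup G)) : Prop where
  TR : T ≤ R
  TM : T ≤ M0
  two : IsPGroup 2 T
  syl : ¬ 2 ∣ T.relIndex R
  notM : ¬ R ≤ M0
  min : ∀ K : Subgroup G, T ≤ K → K ≤ R → ¬ K ≤ M0 → K = R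
  Vc : ∀ v ∈ V, ∀ w ∈ V, v * w = w * v
  Vs : ∀ v ∈ V, v * v = 1
  Mc : ∀ v ∈ M, ∀ w ∈ M, v * w = w * v
  Ms : ∀ v ∈ M, v * v = 1
  DV : D ≤ V
  Dc : ∀ d ∈ D, ∀ g ∈ R, g * d = d * g
  /-- `C_R(u) ≤ M0` for `u ∈ V - D` -/
  st : ∀ u ∈ V, u ∉ D → ∀ g ∈ R, g * u = u * g → g ∈ M0
  hV : h ∈ V
  hD : h ∉ D
  hT : ∀ t ∈ T, t * h * t⁻¹ * h⁻¹ ∈ D
  ED : E ≤ D
  hO : ∀ t ∈ o2 R, t * h * t⁻¹ * h⁻¹ ∈ E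
  hM : h ∈ M
  DM : D ≤ M
  RM : R ≤ normalizer (M : Set G)
  Mgen : ∀ K : Subgroup G, D ≤ K → (∀ x ∈ R, x * h * x⁻¹ ∈ K) → M ≤ K
  QT : Q ≤ T
  QV : Q ≤ centralizer (V : Set G)
  relQ : ∀ B ∈ Rel, B ≤ Q
  relc : ∀ B ∈ Rel, ∀ a ∈ B, ∀ b ∈ B, a * b = b * a
  rels : ∀ B ∈ Rel, ∀ a ∈ B, a * a = 1
  /-- `|M : C_M(B)| ≤ |B : B ∩ O₂(R)|` -/
  rel : ∀ B ∈ Rel, (centralizer (B : Set G)).relIndex M ≤ (o2 R).relIndex B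
  ex : ∃ B ∈ Rel, ¬ B ≤ o2 R
  /-- LEMMA Y -/
  lemY : ∀ u ∈ M, (∀ B ∈ Rel, ∀ b ∈ B, b * u = u * b) → u ∈ V ∨ ∀ v ∈ V, ∃ q ∈ Q, q * u * q⁻¹ = v * u
  /-- if `D ≤ E` then `T` is not abelian on `V / D` -/
  na : D ≤ E → ∃ s ∈ T, ∃ t ∈ T, ∃ v ∈ V, s * t * s⁻¹ * t⁻¹ * v * (s * t * s⁻¹ * t⁻¹)⁻¹ * v⁻¹ ∉ D

/-- The conclusion of the FF step. -/
structure Out {G : Type u} [Group G] (F : Type) [Field F] (V Q T R M0 D E M : Subgroup G) (h : G)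
    (Rel : Set (Subgroup G)) where
  /-- coordinates of `M / D` -/
  e : G → Fin 2 → F
  mul : ∀ v ∈ M, ∀ w ∈ M, e (v * w) = e v + e w
  surj : ∀ x : Fin 2 → F, ∃ v ∈ M, e v = x
  ker : ∀ v ∈ M, e v = 0 ↔ v ∈ D
  lift : ∀ A : Matrix.SpecialLinearGroup (Fin 2) F, ∃ g ∈ R, ∀ v ∈ M, e (g * v * g⁻¹) = ap A (e v)
  norm : ∀ g ∈ R, ∀ x ∈ R, ∀ A : Matrix.SpecialLinearGroup (Fin 2) F, (∀ v ∈ M, e (x * v * x⁻¹) = ap A (e v)) →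
    ∃ B : Matrix.SpecialLinearGroup (Fin 2) F, ∀ v ∈ M, e (g * x * g⁻¹ * v * (g * x * g⁻¹)⁻¹) = ap B (e v)
  /-- `V ∩ M` is the line -/
  line : ∀ v ∈ M, v ∈ V ↔ e v 1 = 0
  /-- the members of `Rel` act as the full root group or trivially -/
  root : ∀ B ∈ Rel, ¬ B ≤ o2 R → (∀ b ∈ B, ∃ c : F, ∀ v ∈ M, e (b * v * b⁻¹) = ap (up c) (e v)) ∧
    ∀ c : F, ∃ b ∈ B, ∀ v ∈ M, e (b * v * b⁻¹) = ap (up c) (e v)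
  /-- exactness -/
  eq : ∀ B ∈ Rel, ∀ u ∈ M, (∀ b ∈ B, b * u * b⁻¹ * u⁻¹ ∈ D) → ∀ b ∈ B, b * u = u * b
  /-- (N1) -/
  card : D.relIndex (V ⊓ M) = Nat.card F
  cardM : D.relIndex M = Nat.card F ^ 2
  /-- (F1) -/
  F1 : ∀ B ∈ Rel, ¬ B ≤ o2 R → (o2 R).relIndex B = D.relIndex (V ⊓ M)
  /-- (F2) -/
  F2 : ∀ B ∈ Rel, ∀ b ∈ B, ∀ m ∈ M, b * m * b⁻¹ * m⁻¹ ∈ V
  /-- (F3) -/
  F3 : ∀ B ∈ Rel, ∀ c ∈ B, c ∉ o2 R → ∀ x ∈ R, x ∉ M0 → x * c * x⁻¹ ∉ M0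
  /-- `M0` stabilises the line, and is the stabiliser of the line -/
  stab : ∀ g ∈ R, g ∈ M0 ↔ ∀ v ∈ V ⊓ M, g * v * g⁻¹ ∈ V ⊓ M
  /-- the kernel of `R` on `M / D` -/
  kerR : ∀ g ∈ R, (∀ v ∈ M, g * v * g⁻¹ * v⁻¹ ∈ D) → g ∈ M0 ∧ ∀ v ∈ M, g * v * g⁻¹ * v⁻¹ ∈ E

end Cfsg.Agent.Omega.NO3S.SN2.FF
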