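import Cfsg.Agent.Omega.NO3S.SN2.FF.Def

/-!
# From a minimal situation to `FFBr.Abs`

`Γ` acts on the elementary abelian 2-group `N`, `P` is a Sylow 2-subgroup of `Γ` and `M₁` the unique maximal subgroup
over it, `N` is generated by the conjugates of the fixed points of `P`, not all of which are fixed by `Γ`: the group
`XG Γ N` induced by `Γ` on `N` satisfies `FFBr.Abs`.
-/

set_option autoImplicit false
set_option linter.unusedSectionVars false

namespace Cfsg.Agent.Omega.NO3S.SN2.FF

open Subgroup Cfsg Cfsg.Agent.Omega.FFBr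
open Cfsg.Agent.MinSimple.MinParabolic

universe u

section act

variable (Γ N : Type u) [Group Γ] [Group N] [MulDistribMulAction Γ N]

/-- the group induced by `Γ` on `N` -/
abbrev XG : Subgroup (MulAut N) := (MulDistribMulAction.toMulAut Γ N).range

/-- the projection -/
def prG : Γ →* XG Γ N := (MulDistribMulAction.toMulAut Γ N).rangeRestrict

variable {Γ N}

theorem prG_surjective : Function.Surjective (prG Γ N) := (MulDistribMulAction.toMulAut Γ N).rangeRestrict_surjective

theorem prG_smul (g : Γ) (v : N) : prG Γ N g • v = g • v := rfl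

theorem prG_eq_iff {g h : Γ} : prG Γ N g = prG Γ N h ↔ ∀ v : N, g • v = h • v := by
  constructor
  · intro h1 v
    rw [← prG_smul, h1, prG_smul]
  · intro h1
    apply Subtype.ext
    apply MulEquiv.ext
    exact h1

theorem prG_eq_one {g : Γ} : prG Γ N g = 1 ↔ ∀ v : N, g • v = v := by
  rw [← map_one (prG Γ N), prG_eq_iff]
  simp only [one_smul]

end act

variable {Γ N : Type u} [Group Γ] [Finite Γ] [Group N] [Finite N] [MulDistribMulAction Γ N]

theorem ker_le {P : Sylow 2 Γ} {M₁ : Subgroup Γ} (hm : IsMin (P : Subgroup Γ) M₁)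
    (nfix : ∃ v : N, (∀ t ∈ P, t • v = v) ∧ ∃ x : Γ, x • v ≠ v) :
    (prG Γ N).ker ≤ M₁ ∧ (P : Subgroup Γ) ≤ M₁ := by
  obtain ⟨v, h1, x, h2⟩ := nfix
  have h3 : MulAction.stabilizer Γ v ≤ M₁ := by
    refine hm.le_of _ (fun t ht => h1 t ht) fun h4 => h2 ?_
    have : x ∈ MulAction.stabilizer Γ v := by rw [h4]; trivial
    exact this
  refine ⟨fun g hg => h3 ?_, fun t ht => h3 (h1 t ht)⟩
  rw [MonoidHom.mem_ker, prG_eq_one] at hg
  exact hg v

/-- **The abstract situation.** -/
theorem abs_of_act {P : Sylow 2 Γ} {M₁ : Subgroup Γ} (hm : IsMin (P : Subgroup Γ) M₁)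
    (comm : ∀ v w : N, v * w = w * v) (sq : ∀ v : N, v * v = 1)
    (gen : ∀ W : Subgroup N, (∀ v : N, (∀ t ∈ P, t • v = v) → ∀ x : Γ, x • v ∈ W) → W = ⊤)
    (nfix : ∃ v : N, (∀ t ∈ P, t • v = v) ∧ ∃ x : Γ, x • v ≠ v) :
    ∃ S : Sylow 2 (XG Γ N), (S : Subgroup (XG Γ N)) = (P : Subgroup Γ).map (prG Γ N) ∧
      Abs (XG Γ N) N S (M₁.map (prG Γ N)) := by
  have hfact : Fact (Nat.Prime 2) := ⟨Nat.prime_two⟩
  obtain ⟨hkM, hPM⟩ := ker_le hm nfix
  obtain ⟨S, hS⟩ : ∃ S : Sylow 2 (XG Γ N), (S : Subgroup (XG Γ N)) = (P : Subgroup Γ).map (prG Γ N) :=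
    ⟨P.mapSurjective (f := prG Γ N) prG_surjective, Sylow.coe_mapSurjective _ _⟩
  have hMc : (M₁.map (prG Γ N)).comap (prG Γ N) = M₁ := by
    rw [comap_map_eq, sup_eq_left]
    exact hkM
  have hfaith : ∀ x : XG Γ N, (∀ v : N, x • v = v) → x = 1 := by
    intro x hx
    apply Subtype.ext
    apply MulEquiv.ext
    exact hx
  have hTmem : ∀ t ∈ P, prG Γ N t ∈ (S : Subgroup (XG Γ N)) := by
    intro t ht
    rw [hS]
    exact ⟨t, ht, rfl⟩
  have hTfix : ∀ v : N, (∀ t ∈ S, t • v = v) ↔ ∀ t ∈ P, t • v = v := by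
    intro v
    constructor
    · intro h t ht
      exact h _ (hTmem t ht)
    · intro h t ht
      have ht' : t ∈ (S : Subgroup (XG Γ N)) := ht
      rw [hS] at ht'
      obtain ⟨s, hs, rfl⟩ := ht'
      exact h s hs
  refine ⟨S, hS, ?_⟩
  refine
    { comm := comm
      sq := sq
      faith := hfaith
      core := ?_
      TM := by
        rw [hS]
        exact map_mono hPM
      Mne := ?_
      max := ?_
      gen := ?_
      nfix := ?_ }
  · intro K hK hK2
    have h8 : K ≤ (S : Subgroup (XG Γ N)) := by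
      have h9 : IsPGroup 2 ((S : Subgroup (XG Γ N)) ⊔ K : Subgroup (XG Γ N)) :=
        S.isPGroup'.to_sup_of_normal_right hK2
      have h10 := S.is_maximal' h9 le_sup_left
      rw [← h10]
      exact le_sup_right
    -- the fixed points of `K`
    have hWm : ∀ v : N, ∀ k ∈ K, k • v = v := by
      have hW := gen
        { carrier := {v | ∀ k ∈ K, k • v = v}
          one_mem' := fun k _ => smul_one k
          mul_mem' := fun {a b} ha hb k hk => by rw [smul_mul', ha k hk, hb k hk]
          inv_mem' := fun {a} ha k hk => by rw [smul_inv', ha k hk] } (by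
          intro v hv g k hk
          have h1 := (hTfix v).2 hv
          have h2 : (prG Γ N g)⁻¹ * k * prG Γ N g ∈ K := by
            have := hK.conj_mem k hk (prG Γ N g)⁻¹
            rwa [inv_inv] at this
          have h3 := h1 _ (h8 h2)
          rw [mul_smul, mul_smul, inv_smul_eq_iff] at h3
          exact h3)
      intro v k hk
      have h1 : v ∈ (⊤ : Subgroup N) := mem_top v
      rw [← hW] at h1
      exact h1 k hk
    rw [eq_bot_iff]
    intro x hx
    rw [mem_bot]
    exact hfaith x fun v => hWm v x hx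
  · intro h5
    apply hm.ne_top
    rw [← hMc, h5, comap_top]
  · intro K hK
    rw [hS, map_le_iff_le_comap] at hK
    by_cases hK1 : K.comap (prG Γ N) = ⊤
    · right
      rw [← map_comap_eq_self_of_surjective prG_surjective K, hK1, map_top_of_surjective _ prG_surjective]
    · left
      have h5 := hm.le_of _ hK hK1
      rw [← map_comap_eq_self_of_surjective prG_surjective K]
      exact map_mono h5
  · intro W hW
    exact gen W fun v hv x => hW v ((hTfix v).2 hv) (prG Γ N x)
  · obtain ⟨v, h1, x, h2⟩ := nfix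
    exact ⟨v, (hTfix v).2 h1, prG Γ N x, h2⟩

end Cfsg.Agent.Omega.NO3S.SN2.FF
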