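import Cfsg.Agent.Omega.NO3S.SN2.FF.Basic

/-!
# The FF step: the FF theorem for `M / D`, written on `G`

* `NatG`, `SymG` : the conclusions of the FF theorem for the group induced by `R` on `M / D`, with coordinates on `G`;
* `Stp.concl` : exactness and `NatG` or `SymG`.
-/

set_option autoImplicit false
set_option linter.unusedSectionVars false

namespace Cfsg.Agent.Omega.NO3S.SN2.FF

open Subgroup Cfsg Cfsg.Agent.ZN Cfsg.Agent.Omega.FFBr Cfsg.Agent.Lib.SL2Mat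
open Cfsg.Agent.MinSimple.MinParabolic Cfsg.Agent.MinSimple.VModule
open Cfsg.Agent.Omega.NatPair (ap)

universe u

section defs

variable {G : Type u} [Group G]

/-- `g` acts as `A` on the coordinates of `M` -/
def ActG {F : Type} [Field F] {k : ℕ} (e : G → Fin k → Fin 2 → F) (M : Subgroup G) (g : G)
    (A : Fin k → Matrix.SpecialLinearGroup (Fin 2) F) : Prop :=
  ∀ v ∈ M, ∀ i, e (g * v * g⁻¹) i = ap (A i) (e v i)

/-- `M / D` is a sum of natural `SL₂(F)`-modules. -/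
structure NatG (F : Type) [Field F] (R T M D O : Subgroup G) (Rel : Set (Subgroup G)) (k : ℕ) where
  e : G → Fin k → Fin 2 → F
  mul : ∀ v ∈ M, ∀ w ∈ M, e (v * w) = e v + e w
  surj : ∀ x, ∃ v ∈ M, e v = x
  ker : ∀ v ∈ M, e v = 0 ↔ v ∈ D
  lift : ∀ A, ∃ g ∈ R, ActG e M g A
  norm : ∀ g ∈ R, ∀ x ∈ R, ∀ A, ActG e M x A → ∃ B, ActG e M (g * x * g⁻¹) B
  perm : ∀ g ∈ R, ∃ σ : Equiv.Perm (Fin k), ∀ v ∈ M, ∀ i, e (g * v * g⁻¹) (σ i) = 0 ↔ e v i = 0
  trans : ∀ i j, ∃ t ∈ T, ∀ v ∈ M, e (t * v * t⁻¹) j = 0 ↔ e v i = 0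
  line : ∀ t ∈ T, ∃ σ : Equiv.Perm (Fin k), ∀ v ∈ M, ∀ i, e (t * v * t⁻¹) (σ i) 1 = 0 ↔ e v i 1 = 0
  unip : ∀ b : Fin k → F, ∃ t ∈ T, ActG e M t fun i => up (b i)
  gen : ∀ K : Subgroup G, T ≤ K → (∀ g ∈ R, ∀ A, ActG e M g A → g ∈ K) → R ≤ K
  off : ∀ B ∈ Rel, ¬ B ≤ O → ∃ I : Set (Fin k),
    (∀ a ∈ B, ∃ b : Fin k → F, (∀ i, i ∉ I → b i = 0) ∧ ActG e M a fun i => up (b i)) ∧
      ∀ b : Fin k → F, (∀ i, i ∉ I → b i = 0) → ∃ a ∈ B, ActG e M a fun i => up (b i)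

/-- `g` acts by the permutation `(σ, τ)` on the coordinates of `M` -/
def ActP {k n : ℕ} (e : G → Fin k → Fin n → ZMod 2) (M : Subgroup G) (g : G)
    (σ : Equiv.Perm (Fin k)) (τ : Fin k → Equiv.Perm (Fin n)) : Prop :=
  ∀ v ∈ M, ∀ i x, e (g * v * g⁻¹) (σ i) (τ i x) = e v i x

/-- `M / D` is a sum of even-subset modules of `S_{2^m+1}`. -/
structure SymG (R T M D O : Subgroup G) (Rel : Set (Subgroup G)) (k m : ℕ) where
  e : G → Fin k → Fin (2 ^ m + 1) → ZMod 2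
  mul : ∀ v ∈ M, ∀ w ∈ M, e (v * w) = e v + e w
  even : ∀ v ∈ M, ∀ i, ∑ x, e v i x = 0
  surj : ∀ y : Fin k → Fin (2 ^ m + 1) → ZMod 2, (∀ i, ∑ x, y i x = 0) → ∃ v ∈ M, e v = y
  ker : ∀ v ∈ M, e v = 0 ↔ v ∈ D
  lift : ∀ τ, ∃ g ∈ R, ActP e M g 1 τ
  perm : ∀ g ∈ R, ∃ σ τ, ActP e M g σ τ
  trans : ∀ i j, ∃ t ∈ T, ∃ σ τ, ActP e M t σ τ ∧ σ i = j
  fix0 : ∀ t ∈ T, ∀ σ τ, ActP e M t σ τ → ∀ i, τ i 0 = 0
  gen : ∀ K : Subgroup G, T ≤ K → (∀ g ∈ R, ∀ τ, ActP e M g 1 τ → g ∈ K) → R ≤ K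
  off : ∀ B ∈ Rel, ¬ B ≤ O → ∀ a ∈ B, ∃ τ, ActP e M a 1 τ ∧ ∀ i x, τ i x ≠ x → τ i (τ i x) = x ∧
    ∃ b ∈ B, ActP e M b 1 (Function.update 1 i (Equiv.swap x (τ i x)))
  /-- subgroups which induce 2-groups are induced by subgroups of `T`, up to conjugation -/
  syl : ∀ K : Subgroup G, K ≤ R → (∀ g ∈ K, ∃ n : ℕ, ∀ v ∈ M, g ^ 2 ^ n * v * (g ^ 2 ^ n)⁻¹ * v⁻¹ ∈ D) →
    ∃ x ∈ R, ∀ g ∈ K, ∃ t ∈ T, ∀ v ∈ M, x * g * x⁻¹ * v * (x * g * x⁻¹)⁻¹ * (t * v * t⁻¹)⁻¹ ∈ D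

end defs

section quot

variable {G : Type u} [Group G] {R M D : Subgroup G}

/-- the action of `R` on `M / D` -/
@[reducible] def qact (hR : R ≤ normalizer (M : Set G)) (hD : ∀ d ∈ D, ∀ g ∈ R, g * d = d * g)
    (hn : (D.subgroupOf M).Normal) : MulDistribMulAction R (M ⧸ D.subgroupOf M) where
  smul g := QuotientGroup.map (D.subgroupOf M) (D.subgroupOf M) ((act hR g : M ≃* M) : M →* M) (by
    rintro d hd
    have h1 : (d : G) ∈ D := hd
    change ((act hR g : M ≃* M) d : G) ∈ D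
    have h2 : ((act hR g : M ≃* M) d : G) = g * d * (g : G)⁻¹ := rfl
    rw [h2, hD d h1 g g.2, mul_inv_cancel_right]
    exact h1)
  one_smul q := by
    obtain ⟨u, rfl⟩ := QuotientGroup.mk_surjective q
    change QuotientGroup.mk ((act hR 1 : M ≃* M) u) = _
    rw [map_one]
    rfl
  mul_smul x y q := by
    obtain ⟨u, rfl⟩ := QuotientGroup.mk_surjective q
    change QuotientGroup.mk ((act hR (x * y) : M ≃* M) u) = QuotientGroup.mk ((act hR x : M ≃* M) ((act hR y : M ≃* M) u))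
    rw [map_mul]
    rfl
  smul_mul x p q := map_mul (QuotientGroup.map _ _ ((act hR x : M ≃* M) : M →* M) _) p q
  smul_one x := map_one (QuotientGroup.map _ _ ((act hR x : M ≃* M) : M →* M) _)

end quot

section main

variable {G : Type u} [Group G] [Finite G] {V Q T R M0 D E M : Subgroup G} {h : G} {Rel : Set (Subgroup G)}

namespace Stp

variable (s : Stp V Q T R M0 D E M h Rel)

include s in
theorem normalD : (D.subgroupOf M).Normal := by
  refine ⟨fun d hd x => ?_⟩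
  have h1 : x * d * x⁻¹ = d := Subtype.ext (by
    change (x : G) * d * (x : G)⁻¹ = d
    rw [s.Mc x x.2 d d.2, mul_inv_cancel_right])
  rw [h1]
  exact hd

section act

variable [hn : (D.subgroupOf M).Normal] [MulDistribMulAction R (M ⧸ D.subgroupOf M)]
  (hact : ∀ (g : R) (v w : M), (w : G) = g * v * (g : G)⁻¹ →
    g • (QuotientGroup.mk v : M ⧸ D.subgroupOf M) = QuotientGroup.mk w)

include s in
theorem mk_eq {v w : M} : (QuotientGroup.mk v : M ⧸ D.subgroupOf M) = QuotientGroup.mk w ↔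
    (v : G) * (w : G)⁻¹ ∈ D := by
  rw [QuotientGroup.eq, mem_subgroupOf]
  have h1 : ((v⁻¹ * w : M) : G) = ((v : G) * (w : G)⁻¹)⁻¹ := by
    change (v : G)⁻¹ * w = _
    rw [mul_inv_rev, inv_inv]
    exact (s.Mc _ (inv_mem v.2) _ w.2)
  rw [h1]
  exact inv_mem_iff

include hact s in
theorem smul_eq_iff {g : R} {v : M} : g • (QuotientGroup.mk v : M ⧸ D.subgroupOf M) = QuotientGroup.mk v ↔
    (g : G) * v * (g : G)⁻¹ * (v : G)⁻¹ ∈ D := by
  rw [hact g v ⟨g * v * (g : G)⁻¹, s.conjM g.2 v.2⟩ rfl, s.mk_eq]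

include hact s in
theorem pr_eq_iff {g k : R} : prG R (M ⧸ D.subgroupOf M) g = prG R (M ⧸ D.subgroupOf M) k ↔
    ∀ v ∈ M, (g : G) * v * (g : G)⁻¹ * ((k : G) * v * (k : G)⁻¹)⁻¹ ∈ D := by
  rw [prG_eq_iff]
  constructor
  · intro h1 v hv
    have h2 := h1 (QuotientGroup.mk ⟨v, hv⟩)
    rw [hact g ⟨v, hv⟩ ⟨g * v * (g : G)⁻¹, s.conjM g.2 hv⟩ rfl,
      hact k ⟨v, hv⟩ ⟨k * v * (k : G)⁻¹, s.conjM k.2 hv⟩ rfl, s.mk_eq] at h2
    exact h2
  · intro h1 q
    obtain ⟨v, rfl⟩ := QuotientGroup.mk_surjective q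
    rw [hact g v ⟨g * v * (g : G)⁻¹, s.conjM g.2 v.2⟩ rfl,
      hact k v ⟨k * v * (k : G)⁻¹, s.conjM k.2 v.2⟩ rfl, s.mk_eq]
    exact h1 v v.2

include hact s in
theorem mem_ker {g : R} : g ∈ (prG R (M ⧸ D.subgroupOf M)).ker ↔ (g : G) ∈ s.KR := by
  rw [MonoidHom.mem_ker, prG_eq_one, mem_KR]
  constructor
  · intro h1
    exact ⟨g.2, fun v hv => (s.smul_eq_iff hact (v := ⟨v, hv⟩)).1 (h1 _)⟩
  · intro h1 q
    obtain ⟨v, rfl⟩ := QuotientGroup.mk_surjective q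
    exact (s.smul_eq_iff hact).2 (h1.2 v v.2)

/-- the group induced by `B` -/
def im (B : Subgroup G) : Subgroup (XG R (M ⧸ D.subgroupOf M)) := (B.subgroupOf R).map (prG R (M ⧸ D.subgroupOf M))

include hact s in
theorem card_im {B : Subgroup G} (hB : B ≤ T) : Nat.card (im (R := R) (M := M) (D := D) B) = (o2 R).relIndex B := by
  have hBR := hB.trans s.TR
  have h1 : (prG R (M ⧸ D.subgroupOf M)).ker.relIndex (B.subgroupOf R) = Nat.card (im (R := R) (M := M) (D := D) B) :=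
    relIndex_ker _ _
  rw [← h1, ← relIndex_subgroupOf hBR, ← inf_relIndex_right (prG R (M ⧸ D.subgroupOf M)).ker,
    ← inf_relIndex_right ((o2 R).subgroupOf R)]
  congr 1
  ext b
  constructor
  · rintro ⟨h2, h3⟩
    exact ⟨s.kerT (hB h3) ((s.mem_ker hact).1 h2), h3⟩
  · rintro ⟨h2, h3⟩
    exact ⟨(s.mem_ker hact).2 (s.o2_le_KR h2), h3⟩

include hact s in
theorem mem_cv_iff {B : Subgroup G} (hB : B ≤ R) {v : M} :
    (QuotientGroup.mk v : M ⧸ D.subgroupOf M) ∈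
      ClassTwoFusion.Quad.cv (M ⧸ D.subgroupOf M) ((im B : Subgroup (XG R (M ⧸ D.subgroupOf M))) : Set (XG R (M ⧸ D.subgroupOf M))) ↔
      ∀ b ∈ B, b * v * b⁻¹ * (v : G)⁻¹ ∈ D := by
  rw [ClassTwoFusion.Quad.mem_cv]
  constructor
  · intro h1 b hb
    have h2 := h1 (prG R _ ⟨b, hB hb⟩) ⟨⟨b, hB hb⟩, hb, rfl⟩
    rw [prG_smul] at h2
    exact (s.smul_eq_iff hact).1 h2
  · rintro h1 _ ⟨b, hb, rfl⟩
    rw [prG_smul]
    exact (s.smul_eq_iff hact).2 (h1 b hb)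

include hact s in
theorem index_cv {B : Subgroup G} (hB : B ≤ R) :
    (ClassTwoFusion.Quad.cv (M ⧸ D.subgroupOf M) ((im B : Subgroup (XG R (M ⧸ D.subgroupOf M))) : Set (XG R (M ⧸ D.subgroupOf M)))).index ∣
      (centralizer (B : Set G)).relIndex M ∧
    ((centralizer (B : Set G)).relIndex M ≤
      (ClassTwoFusion.Quad.cv (M ⧸ D.subgroupOf M) ((im B : Subgroup (XG R (M ⧸ D.subgroupOf M))) : Set (XG R (M ⧸ D.subgroupOf M)))).index →
      ∀ u ∈ M, (∀ b ∈ B, b * u * b⁻¹ * u⁻¹ ∈ D) → ∀ b ∈ B, b * u = u * b) := by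
  set W := ClassTwoFusion.Quad.cv (M ⧸ D.subgroupOf M) ((im B : Subgroup (XG R (M ⧸ D.subgroupOf M))) : Set (XG R (M ⧸ D.subgroupOf M))) with hW
  have h1 : (W.comap (QuotientGroup.mk' (D.subgroupOf M))).index = W.index :=
    index_comap_of_surjective _ (QuotientGroup.mk'_surjective _)
  have h2 : (centralizer (B : Set G)).subgroupOf M ≤ W.comap (QuotientGroup.mk' (D.subgroupOf M)) := by
    intro v hv
    rw [mem_comap]
    refine (s.mem_cv_iff hact hB).2 fun b hb => ?_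
    have h3 : b * v = v * b := mem_centralizer_iff.1 (mem_subgroupOf.1 hv) b hb
    rw [h3, mul_inv_cancel_right, mul_inv_cancel]
    exact one_mem _
  have h3 := relIndex_mul_index h2
  rw [h1] at h3
  have h4 : ((centralizer (B : Set G)).subgroupOf M).index = (centralizer (B : Set G)).relIndex M := rfl
  rw [h4] at h3
  refine ⟨⟨_, by rw [← h3]; ring⟩, fun h5 u hu hub => ?_⟩
  have h6 : 0 < W.index := Nat.pos_of_ne_zero W.index_ne_zero_of_finite
  have h7 : ((centralizer (B : Set G)).subgroupOf M).relIndex (W.comap (QuotientGroup.mk' (D.subgroupOf M))) = 1 := by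
    have h8 : 0 < ((centralizer (B : Set G)).subgroupOf M).relIndex (W.comap (QuotientGroup.mk' (D.subgroupOf M))) := by
      rcases Nat.eq_zero_or_pos (((centralizer (B : Set G)).subgroupOf M).relIndex
        (W.comap (QuotientGroup.mk' (D.subgroupOf M)))) with h0 | h0
      · rw [h0, zero_mul] at h3
        have h9 : (centralizer (B : Set G)).relIndex M ≠ 0 := by
          rw [← h4]
          exact index_ne_zero_of_finite
        exact absurd h3.symm h9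
      · exact h0
    rw [← h3] at h5
    by_contra hne
    have h9 : 2 ≤ ((centralizer (B : Set G)).subgroupOf M).relIndex (W.comap (QuotientGroup.mk' (D.subgroupOf M))) := by
      omega
    have h10 := Nat.mul_le_mul_right W.index h9
    omega
  have h8 := relIndex_eq_one.1 h7
  have h9 : (⟨u, hu⟩ : M) ∈ W.comap (QuotientGroup.mk' (D.subgroupOf M)) := by
    rw [mem_comap]
    exact (s.mem_cv_iff hact hB).2 hub
  have h10 : u ∈ centralizer (B : Set G) := h8 h9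
  exact fun b hb => mem_centralizer_iff.1 h10 b hb

include hact s in
theorem abs : ∃ (P : Sylow 2 R) (S : Sylow 2 (XG R (M ⧸ D.subgroupOf M))), (P : Subgroup R) = T.subgroupOf R ∧
    (S : Subgroup (XG R (M ⧸ D.subgroupOf M))) = (P : Subgroup R).map (prG R (M ⧸ D.subgroupOf M)) ∧
    Abs (XG R (M ⧸ D.subgroupOf M)) (M ⧸ D.subgroupOf M) S ((M0.subgroupOf R).map (prG R (M ⧸ D.subgroupOf M))) := by
  obtain ⟨P, hP⟩ := s.exists_sylow
  have hfixh : ∀ t ∈ P, t • (QuotientGroup.mk (⟨h, s.hM⟩ : M) : M ⧸ D.subgroupOf M) = QuotientGroup.mk ⟨h, s.hM⟩ := by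
    intro t ht
    have ht' : t ∈ (P : Subgroup R) := ht
    rw [hP] at ht'
    exact (s.smul_eq_iff hact).2 (s.hT _ ht')
  have h1 := abs_of_act (Γ := R) (N := M ⧸ D.subgroupOf M) (P := P) (s.isMin hP) ?_ ?_ ?_ ?_
  · obtain ⟨S, hS, habs⟩ := h1
    exact ⟨P, S, hP, hS, habs⟩
  · intro v w
    obtain ⟨v, rfl⟩ := QuotientGroup.mk_surjective v
    obtain ⟨w, rfl⟩ := QuotientGroup.mk_surjective w
    rw [← QuotientGroup.mk_mul, ← QuotientGroup.mk_mul]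
    congr 1
    exact Subtype.ext (s.Mc v v.2 w w.2)
  · intro v
    obtain ⟨v, rfl⟩ := QuotientGroup.mk_surjective v
    rw [← QuotientGroup.mk_mul, ← QuotientGroup.mk_one]
    congr 1
    exact Subtype.ext (s.Ms v v.2)
  · intro W hW
    have h2 : M ≤ (W.comap (QuotientGroup.mk' (D.subgroupOf M))).map M.subtype := by
      apply s.Mgen
      · intro d hd
        refine ⟨⟨d, s.DM hd⟩, ?_, rfl⟩
        change (QuotientGroup.mk (⟨d, s.DM hd⟩ : M) : M ⧸ D.subgroupOf M) ∈ W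
        have h3 : (QuotientGroup.mk (⟨d, s.DM hd⟩ : M) : M ⧸ D.subgroupOf M) = 1 :=
          (QuotientGroup.eq_one_iff _).2 hd
        rw [h3]
        exact one_mem _
      · intro x hx
        refine ⟨⟨x * h * x⁻¹, s.conjM hx s.hM⟩, ?_, rfl⟩
        change (QuotientGroup.mk (⟨x * h * x⁻¹, s.conjM hx s.hM⟩ : M) : M ⧸ D.subgroupOf M) ∈ W
        rw [← hact ⟨x, hx⟩ ⟨h, s.hM⟩ ⟨x * h * x⁻¹, s.conjM hx s.hM⟩ rfl]
        exact hW _ hfixh _
    rw [eq_top_iff]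
    intro q _
    obtain ⟨v, rfl⟩ := QuotientGroup.mk_surjective q
    obtain ⟨w, hw, hwv⟩ := h2 v.2
    have h4 : w = v := Subtype.ext hwv
    rw [← h4]
    exact hw
  · refine ⟨QuotientGroup.mk ⟨h, s.hM⟩, hfixh, ?_⟩
    by_contra hcon
    push Not at hcon
    exact s.SH_ne fun g hg => ⟨hg, (s.smul_eq_iff hact (v := ⟨h, s.hM⟩)).1 (hcon ⟨g, hg⟩)⟩

include hact s in
theorem aoff {B : Subgroup G} (hB : B ∈ Rel) (hBo : ¬ B ≤ o2 R) :
    AOff (M ⧸ D.subgroupOf M) (im B : Subgroup (XG R (M ⧸ D.subgroupOf M))) where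
  comm := by
    rintro _ ⟨a, ha, rfl⟩ _ ⟨b, hb, rfl⟩
    rw [← map_mul, ← map_mul]
    congr 1
    exact Subtype.ext (s.relc B hB a ha b hb)
  sq := by
    rintro _ ⟨a, ha, rfl⟩
    rw [← map_mul, ← map_one (prG R (M ⧸ D.subgroupOf M))]
    congr 1
    exact Subtype.ext (s.rels B hB a ha)
  ne := by
    intro h1
    apply hBo
    intro b hb
    have hbT := s.QT (s.relQ B hB hb)
    have h2 : prG R (M ⧸ D.subgroupOf M) ⟨b, s.TR hbT⟩ ∈ (im B : Subgroup (XG R (M ⧸ D.subgroupOf M))) :=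
      ⟨⟨b, s.TR hbT⟩, hb, rfl⟩
    rw [h1, mem_bot, ← MonoidHom.mem_ker, s.mem_ker hact] at h2
    exact s.kerT hbT h2
  le := by
    have hBT := (s.relQ B hB).trans s.QT
    rw [s.card_im hact hBT]
    have h1 := (s.index_cv hact (hBT.trans s.TR)).1
    have h2 : 0 < (centralizer (B : Set G)).relIndex M :=
      Nat.pos_of_ne_zero (index_ne_zero_of_finite (H := (centralizer (B : Set G)).subgroupOf M))
    exact (Nat.le_of_dvd h2 h1).trans (s.rel B hB)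

include hact s in
theorem exact (hno : ANoOver (XG R (M ⧸ D.subgroupOf M)) (M ⧸ D.subgroupOf M)) :
    ∀ B ∈ Rel, ∀ u ∈ M, (∀ b ∈ B, b * u * b⁻¹ * u⁻¹ ∈ D) → ∀ b ∈ B, b * u = u * b := by
  intro B hB
  have hBT := (s.relQ B hB).trans s.QT
  by_cases hBo : B ≤ o2 R
  · intro u hu _ b hb
    have h1 := s.rel B hB
    rw [relIndex_eq_one.2 hBo] at h1
    have h2 : (centralizer (B : Set G)).relIndex M ≠ 0 :=
      index_ne_zero_of_finite (H := (centralizer (B : Set G)).subgroupOf M)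
    have h3 : M ≤ centralizer (B : Set G) := relIndex_eq_one.1 (by omega)
    exact mem_centralizer_iff.1 (h3 hu) b hb
  · refine (s.index_cv hact (hBT.trans s.TR)).2 ?_
    have h1 := s.aoff hact hB hBo
    have h2 := hno _ h1.comm h1.sq
    rw [s.card_im hact hBT] at h2
    exact (s.rel B hB).trans h2

include hact s in
theorem odd_bot (hex : ∀ B ∈ Rel, ∀ u ∈ M, (∀ b ∈ B, b * u * b⁻¹ * u⁻¹ ∈ D) → ∀ b ∈ B, b * u = u * b)
    (hfix : ∀ B ∈ Rel, ∀ x ∈ (im B : Subgroup (XG R (M ⧸ D.subgroupOf M))),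
      ∀ d ∈ odd (XG R (M ⧸ D.subgroupOf M)) (M ⧸ D.subgroupOf M), x • d = d) :
    odd (XG R (M ⧸ D.subgroupOf M)) (M ⧸ D.subgroupOf M) = ⊥ := by
  rw [eq_bot_iff]
  intro q hq
  obtain ⟨u, rfl⟩ := QuotientGroup.mk_surjective q
  have h1 : ∀ B ∈ Rel, ∀ b ∈ B, b * (u : G) = u * b := by
    intro B hB
    refine hex B hB u u.2 fun b hb => ?_
    have hbR := s.TR (s.QT (s.relQ B hB hb))
    have h2 := hfix B hB (prG R _ ⟨b, hbR⟩) ⟨⟨b, hbR⟩, hb, rfl⟩ _ hq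
    rw [prG_smul] at h2
    exact (s.smul_eq_iff hact).1 h2
  -- elements of odd order of `R` fix the members of `odd`
  have hodd : ∀ w : M, (QuotientGroup.mk w : M ⧸ D.subgroupOf M) ∈ odd (XG R (M ⧸ D.subgroupOf M)) (M ⧸ D.subgroupOf M) →
      ∀ g ∈ R, Odd (orderOf g) → g * w * g⁻¹ * (w : G)⁻¹ ∈ D := by
    intro w hw g hg ho
    have h2 : Odd (orderOf (prG R (M ⧸ D.subgroupOf M) ⟨g, hg⟩)) := by
      refine Odd.of_dvd_nat ho ?_
      have h3 := orderOf_map_dvd (prG R (M ⧸ D.subgroupOf M)) ⟨g, hg⟩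
      have h4 : orderOf (⟨g, hg⟩ : R) = orderOf g := orderOf_mk _ _
      rw [h4] at h3
      exact h3
    have h3 := hw _ h2
    rw [prG_smul] at h3
    exact (s.smul_eq_iff hact).1 h3
  have huV : (u : G) ∈ V := by
    rcases s.lemY u u.2 h1 with h2 | h2
    · exact h2
    exfalso
    obtain ⟨x, hxQ, hx⟩ := h2 h s.hV
    have hxR := s.TR (s.QT hxQ)
    have h3 : (QuotientGroup.mk (⟨h, s.hM⟩ : M) : M ⧸ D.subgroupOf M) ∈
        odd (XG R (M ⧸ D.subgroupOf M)) (M ⧸ D.subgroupOf M) := by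
      have h4 : (QuotientGroup.mk (⟨x * u * x⁻¹, s.conjM hxR u.2⟩ : M) : M ⧸ D.subgroupOf M) ∈
          odd (XG R (M ⧸ D.subgroupOf M)) (M ⧸ D.subgroupOf M) := by
        rw [← hact ⟨x, hxR⟩ u ⟨x * u * x⁻¹, s.conjM hxR u.2⟩ rfl]
        intro y hy
        have h5 : Odd (orderOf ((prG R (M ⧸ D.subgroupOf M) ⟨x, hxR⟩)⁻¹ * y * prG R (M ⧸ D.subgroupOf M) ⟨x, hxR⟩)) := by
          have e : (prG R (M ⧸ D.subgroupOf M) ⟨x, hxR⟩)⁻¹ * y * prG R (M ⧸ D.subgroupOf M) ⟨x, hxR⟩ =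
            MulAut.conj (prG R (M ⧸ D.subgroupOf M) ⟨x, hxR⟩)⁻¹ y := by
            rw [MulAut.conj_apply, inv_inv]
          rw [e, MulEquiv.orderOf_eq]
          exact hy
        have h6 := hq _ h5
        rw [mul_smul, mul_smul, inv_smul_eq_iff] at h6
        exact h6
      have h7 : (⟨h, s.hM⟩ : M) = ⟨x * u * x⁻¹, s.conjM hxR u.2⟩ * u⁻¹ := Subtype.ext (by
        change h = x * u * x⁻¹ * (u : G)⁻¹
        rw [hx, mul_inv_cancel_right])
      rw [h7, QuotientGroup.mk_mul, QuotientGroup.mk_inv]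
      exact mul_mem h4 (inv_mem hq)
    exact s.notfix s.hV s.hD (hodd _ h3)
  have huD : (u : G) ∈ D := by
    by_contra hcon
    exact s.notfix huV hcon (hodd u hq)
  rw [mem_bot]
  exact (QuotientGroup.eq_one_iff _).2 huD

end act

end Stp

end main

end Cfsg.Agent.Omega.NO3S.SN2.FF
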