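import Cfsg.Agent.Omega.NO3S.SN2.FF.SymD

/-!
# The FF step: the even-subset case does not occur
-/

set_option autoImplicit false
set_option linter.unusedSectionVars false

namespace Cfsg.Agent.Omega.NO3S.SN2.FF

open Subgroup Cfsg Cfsg.Agent.ZN Cfsg.Agent.Omega.FFBr
open Cfsg.Agent.MinSimple.VModule

universe u

variable {G : Type u} [Group G] [Finite G] {V Q T R M0 D E M : Subgroup G} {h : G} {Rel : Set (Subgroup G)}

namespace SymG

variable {k m : ℕ} (y : SymG R T M D (o2 R) Rel k m) (s : Stp V Q T R M0 D E M h Rel)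
  (hex : ∀ B ∈ Rel, ∀ u ∈ M, (∀ b ∈ B, b * u * b⁻¹ * u⁻¹ ∈ D) → ∀ b ∈ B, b * u = u * b)

/-- the permutations induced by `M0` -/
def WW (y : SymG R T M D (o2 R) Rel k m) (s : Stp V Q T R M0 D E M h Rel) :
    Subgroup (Fin k → Equiv.Perm (Fin (2 ^ m + 1))) where
  carrier := {τ | ∃ g ∈ R, g ∈ M0 ∧ ActP y.e M g 1 τ}
  one_mem' := ⟨1, one_mem _, one_mem _, ActP.one⟩
  mul_mem' := by
    rintro a b ⟨g, hg, hg0, h1⟩ ⟨g', hg', hg0', h2⟩
    exact ⟨g * g', mul_mem hg hg', mul_mem hg0 hg0', h1.mul1 s.RM h2 hg'⟩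
  inv_mem' := by
    rintro a ⟨g, hg, hg0, h1⟩
    exact ⟨g⁻¹, inv_mem hg, inv_mem hg0, h1.inv1 s.RM hg⟩

include s in
theorem sim_of {g g' : G} {τ : Fin k → Equiv.Perm (Fin (2 ^ m + 1))} (hg : g ∈ R) (hg' : g' ∈ R)
    (h13 : ActP y.e M g 1 τ) (h14 : ActP y.e M g' 1 τ) : Sim D M g g' := by
  intro v hv
  rw [← y.e_eq s (s.conjM hg hv) (s.conjM hg' hv)]
  funext j z
  obtain ⟨z, rfl⟩ := (τ j).surjective z
  have h15 := h13 v hv j z
  have h16 := h14 v hv j z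
  exact h15.trans h16.symm

include s in
theorem mem_WW {g : G} {τ : Fin k → Equiv.Perm (Fin (2 ^ m + 1))} (hg : g ∈ R) (h1 : ActP y.e M g 1 τ)
    (h2 : τ ∈ y.WW s) : g ∈ M0 := by
  obtain ⟨g', hg', hg0, h3⟩ := h2
  have h4 := y.sim_of s hg hg' h1 h3
  have h5 : g'⁻¹ * g ∈ s.KR := by
    refine ⟨mul_mem (inv_mem hg') hg, fun w hw => ?_⟩
    have h6 := s.conjD (inv_mem hg') (h4 w hw)
    have e : g'⁻¹ * g * w * (g'⁻¹ * g)⁻¹ * w⁻¹ = g'⁻¹ * ((g * w * g⁻¹) * (g' * w * g'⁻¹)⁻¹) * g'⁻¹⁻¹ := by group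
    rw [e, h6]
    exact h4 w hw
  have h6 := mul_mem hg0 (s.KR_le h5)
  have e : g' * (g'⁻¹ * g) = g := by group
  rwa [e] at h6

include s hex in
/-- 3-cycles which fix a pair of `T` are in `M0` -/
theorem three (hm : 2 ≤ m) {i : Fin k} {a b p q r : Fin (2 ^ m + 1)} (h1 : y.TP i a b) (hpq : p ≠ q) (hpr : p ≠ r)
    (hqr : q ≠ r) (hp : p ≠ a ∧ p ≠ b) (hq : q ≠ a ∧ q ≠ b) (hr : r ≠ a ∧ r ≠ b) :
    ud i (Equiv.swap p q * Equiv.swap p r) ∈ y.WW s := by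
  set π : Equiv.Perm (Fin (2 ^ m + 1)) := Equiv.swap p q * Equiv.swap p r with hπ
  have hπ3 : π ^ 3 = 1 := by
    have h11 := (Equiv.Perm.isThreeCycle_swap_mul_swap_same hpq hpr hqr).orderOf
    rw [← hπ] at h11
    rw [← h11, pow_orderOf_eq_one]
  obtain ⟨g, hg, h2⟩ := y.lift (ud i π)
  obtain ⟨n, hn, hn1⟩ := exists_odd_pow g
  have h3 := h2.pow s.RM hg n
  rw [ud_pow, pow_eq_of_mod hπ3 hn1] at h3
  have hgn : g ^ n ∈ R := pow_mem hg n
  obtain ⟨v, hv, he⟩ := y.surj (pv i a b) (pv_even i a b)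
  have hvV : v ∈ V := y.memV s hex hm h1 hv he
  have hvD : v ∉ D := fun h0 => pv_ne_zero h1.1 (by rw [← he]; exact (y.ker v hv).2 h0)
  have ha : π a = a := by
    rw [hπ, Equiv.Perm.mul_apply, Equiv.swap_apply_of_ne_of_ne hp.1.symm hr.1.symm,
      Equiv.swap_apply_of_ne_of_ne hp.1.symm hq.1.symm]
  have hb : π b = b := by
    rw [hπ, Equiv.Perm.mul_apply, Equiv.swap_apply_of_ne_of_ne hp.2.symm hr.2.symm,
      Equiv.swap_apply_of_ne_of_ne hp.2.symm hq.2.symm]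
  have h4 : y.e (g ^ n * v * (g ^ n)⁻¹) = y.e v := by
    rw [h3.pv hv he, ud_same, ha, hb, he]
    rfl
  have h5 := s.odd_comm hgn hn ((y.e_eq s (s.conjM hgn hv) hv).1 h4)
  exact ⟨g ^ n, hgn, s.st v hvV hvD _ hgn h5, h3⟩

include s in
theorem swapT {i : Fin k} {a b : Fin (2 ^ m + 1)} (h1 : y.TP i a b) : ud i (Equiv.swap a b) ∈ y.WW s := by
  obtain ⟨h1, t, ht, h2⟩ := h1
  exact ⟨t, s.TR ht, s.TM ht, h2⟩

include s hex in
/-- all transpositions which fix the pair `{a, b}` of `T` -/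
theorem swaps (hm : 2 ≤ m) {i : Fin k} {a b c d : Fin (2 ^ m + 1)} (h1 : y.TP i a b) (h2 : y.TP i c d)
    (hc : c ≠ a ∧ c ≠ b) (hd : d ≠ a ∧ d ≠ b) {p q : Fin (2 ^ m + 1)} (hp : p ≠ a ∧ p ≠ b) (hq : q ≠ a ∧ q ≠ b) :
    ud i (Equiv.swap p q) ∈ y.WW s := by
  have h3 : ∀ x, (x ≠ a ∧ x ≠ b) → ud i (Equiv.swap c x) ∈ y.WW s := by
    intro x hx
    by_cases e1 : x = d
    · subst e1
      exact y.swapT s h2
    by_cases e2 : x = c
    · subst e2
      rw [Equiv.swap_self]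
      have : ud i (Equiv.refl (Fin (2 ^ m + 1)) : Equiv.Perm (Fin (2 ^ m + 1))) = 1 := ud_one i
      rw [this]
      exact one_mem _
    have h4 := mul_mem (y.three s hex hm h1 (Ne.symm e2) h2.1 e1 hc hx hd) (y.swapT s h2)
    rw [ud_mul, mul_assoc, Equiv.swap_mul_self, mul_one] at h4
    exact h4
  by_cases e1 : p = q
  · subst e1
    rw [Equiv.swap_self]
    have : ud i (Equiv.refl (Fin (2 ^ m + 1)) : Equiv.Perm (Fin (2 ^ m + 1))) = 1 := ud_one i
    rw [this]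
    exact one_mem _
  by_cases e2 : q = c
  · subst e2
    rw [Equiv.swap_comm]
    exact h3 p hp
  by_cases e3 : p = c
  · subst e3
    exact h3 q hq
  have h5 := mul_mem (mul_mem (h3 p hp) (h3 q hq)) (inv_mem (h3 p hp))
  rw [ud_inv, ud_mul, ud_mul] at h5
  have h6 := Equiv.swap_apply_apply (Equiv.swap c p) c q
  rw [Equiv.swap_apply_left, Equiv.swap_apply_of_ne_of_ne e2 (Ne.symm e1)] at h6
  rw [← h6] at h5
  exact h5

include y s hex in
/-- **The even-subset case does not occur.** -/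
theorem false (hm : 2 ≤ m) : False := by
  apply s.notM
  have hW : ∀ i (π : Equiv.Perm (Fin (2 ^ m + 1))), ud i π ∈ y.WW s := by
    intro i
    obtain ⟨a, b, c, d, h1, h2, hca, hcb⟩ := y.exists_two s hm i
    obtain ⟨ha0, hb0⟩ := h1.ne_zero
    obtain ⟨hc0, hd0⟩ := h2.ne_zero
    have hda : d ≠ a := by
      rintro rfl
      exact hcb (y.tp_unique s hm h2.symm h1)
    have hdb : d ≠ b := by
      rintro rfl
      exact hca (y.tp_unique s hm h2.symm h1.symm)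
    have h3 : ∀ x, ud i (Equiv.swap 0 x) ∈ y.WW s := by
      intro x
      by_cases hx : x ≠ a ∧ x ≠ b
      · exact y.swaps s hex hm h1 h2 ⟨hca, hcb⟩ ⟨hda, hdb⟩ ⟨ha0.symm, hb0.symm⟩ hx
      · have hx' : x ≠ c ∧ x ≠ d := by
          rw [not_and_or, not_not, not_not] at hx
          rcases hx with rfl | rfl
          · exact ⟨hca.symm, hda.symm⟩
          · exact ⟨hcb.symm, hdb.symm⟩
        exact y.swaps s hex hm h2 h1 ⟨hca.symm, hda.symm⟩ ⟨hcb.symm, hdb.symm⟩ ⟨hc0.symm, hd0.symm⟩ hx'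
    have h4 : ∀ p q, ud i (Equiv.swap p q) ∈ y.WW s := by
      intro p q
      by_cases e1 : p = q
      · subst e1
        rw [Equiv.swap_self]
        have : ud i (Equiv.refl (Fin (2 ^ m + 1)) : Equiv.Perm (Fin (2 ^ m + 1))) = 1 := ud_one i
        rw [this]
        exact one_mem _
      by_cases e2 : q = 0
      · subst e2
        rw [Equiv.swap_comm]
        exact h3 p
      have h5 := mul_mem (mul_mem (h3 p) (h3 q)) (inv_mem (h3 p))
      rw [ud_inv, ud_mul, ud_mul] at h5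
      have h6 := Equiv.swap_apply_apply (Equiv.swap 0 p) 0 q
      rw [Equiv.swap_apply_left, Equiv.swap_apply_of_ne_of_ne e2 (Ne.symm e1)] at h6
      rw [← h6] at h5
      exact h5
    have h5 : (⊤ : Subgroup (Equiv.Perm (Fin (2 ^ m + 1)))) ≤
        (y.WW s).comap (MonoidHom.mulSingle (fun _ : Fin k => Equiv.Perm (Fin (2 ^ m + 1))) i) := by
      rw [← Equiv.Perm.closure_isSwap, closure_le]
      rintro x ⟨p, q, -, rfl⟩
      exact h4 p q
    intro π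
    exact h5 (mem_top π)
  have hW' : ∀ τ, τ ∈ y.WW s := by
    intro τ
    refine Subgroup.pi_mem_of_mulSingle_mem τ fun i => hW i (τ i)
  exact y.gen M0 s.TM fun g hg τ h1 => y.mem_WW s hg h1 (hW' τ)

end SymG

end Cfsg.Agent.Omega.NO3S.SN2.FF
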