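import Cfsg.Agent.Omega.NO3S.SN2.FF.OneB
import Cfsg.Agent.Omega.NO3S.SN2.FF.SymEnd

/-!
# The FF step: the conclusion
-/

set_option autoImplicit false
set_option linter.unusedSectionVars false

namespace Cfsg.Agent.Omega.NO3S.SN2.FF

open Subgroup Cfsg Cfsg.Agent.ZN Cfsg.Agent.Omega.FFBr Cfsg.Agent.Lib.SL2Mat
open Cfsg.Agent.Omega.NatPair (ap ap_zero' ap_one' ap_mul ap_one ap_add ap_inv_ap ap_ap_inv ap_inj ext2 ap_smul)

universe u

variable {G : Type u} [Group G] [Finite G] {V Q T R M0 D E M : Subgroup G} {h : G} {Rel : Set (Subgroup G)}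

variable {F : Type} [Field F] [CharP F 2]

omit [Finite G] [CharP F 2] in
theorem ActO.inj {O : Subgroup G} (y : One F R T M D O Rel) {g : G} {A B : Matrix.SpecialLinearGroup (Fin 2) F}
    (h1 : ActO y.e M g A) (h2 : ActO y.e M g B) : A = B := by
  apply ap_inj
  intro x
  obtain ⟨v, hv, rfl⟩ := y.surj x
  rw [← h1 v hv, ← h2 v hv]

namespace One

variable (y : One F R T M D (o2 R) Rel) (s : Stp V Q T R M0 D E M h Rel)
  (hex : ∀ B ∈ Rel, ∀ u ∈ M, (∀ b ∈ B, b * u * b⁻¹ * u⁻¹ ∈ D) → ∀ b ∈ B, b * u = u * b)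

include y s

/-- a conjugate of a root element with another centre does not fix the line -/
theorem moved {g t v : G} (hg : g ∈ R) (ht : t ∈ R) (hv : v ∈ M) {c : F} (h1 : ActO y.e M t (up c)) (hc : c ≠ 0)
    (h2 : y.e v 1 = 0) (h3 : y.e (g * v * g⁻¹) 1 ≠ 0) {B : Matrix.SpecialLinearGroup (Fin 2) F}
    (hB : ActO y.e M (g * t * g⁻¹) B) : ent B 1 0 ≠ 0 := by
  intro h0
  have h4 := hB (g * v * g⁻¹) (s.conjM hg hv)
  have e1 : g * t * g⁻¹ * (g * v * g⁻¹) * (g * t * g⁻¹)⁻¹ = g * (t * v * t⁻¹) * g⁻¹ := by group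
  have h5 : y.e (t * v * t⁻¹) = y.e v := by rw [h1 v hv, ap_up_fix h2]
  rw [e1, y.congr s hg (s.conjM ht hv) hv h5] at h4
  have h6 := congrFun h4 0
  have h7 := congrFun h4 1
  rw [ap_zero'] at h6
  rw [ap_one', h0, zero_mul, zero_add] at h7
  have h8 : ent B 1 1 = 1 := by
    have : 1 * y.e (g * v * g⁻¹) 1 = ent B 1 1 * y.e (g * v * g⁻¹) 1 := by rw [one_mul]; exact h7
    exact (mul_right_cancel₀ h3 this).symm
  have hd := det_eq B
  rw [h0, h8, mul_zero, sub_zero, mul_one] at hd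
  rw [hd, one_mul] at h6
  have h9 : ent B 0 1 = 0 := by
    have h10 := left_eq_add.1 h6
    exact (mul_eq_zero.1 h10).resolve_right h3
  have hB1 : B = 1 := ext_ent hd h9 h0 h8
  rw [hB1] at hB
  have h10 := y.mem_KR_of s (mul_mem (mul_mem hg ht) (inv_mem hg)) hB
  have h11 := s.KR_conj h10 (inv_mem hg)
  have e2 : g⁻¹ * (g * t * g⁻¹) * g⁻¹⁻¹ = t := by group
  rw [e2] at h11
  have h12 := y.act_one s h11 h1
  rw [← up_zero] at h12
  exact hc (up_inj h12)

include hex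

theorem mem_VM [Finite F] {v : G} (hv : v ∈ M) : v ∈ V ↔ y.e v 1 = 0 :=
  ⟨fun h1 => y.line_of s hv h1, fun h1 => y.mem_V s hex hv h1⟩

/-- `M0` is the stabiliser of the line -/
theorem stab [Finite F] {g : G} (hg : g ∈ R) : g ∈ M0 ↔ ∀ v ∈ V ⊓ M, g * v * g⁻¹ ∈ V ⊓ M := by
  constructor
  · rintro hgM v ⟨hvV, hvM⟩
    have hgv := s.conjM hg hvM
    refine ⟨?_, hgv⟩
    by_contra hcon
    have h1 : y.e (g * v * g⁻¹) 1 ≠ 0 := fun h0 => hcon (y.mem_V s hex hgv h0)
    obtain ⟨t, ht, h2⟩ := y.unip 1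
    obtain ⟨B, hB⟩ := y.norm g hg t (s.TR ht) _ h2
    refine y.moved s hg (s.TR ht) hvM h2 one_ne_zero (y.line_of s hvM hvV) h1 hB (y.not_low s ?_)
    exact ⟨_, mul_mem (mul_mem hg (s.TR ht)) (inv_mem hg), mul_mem (mul_mem hgM (s.TM ht)) (inv_mem hgM), hB⟩
  · intro h1
    have hK : ∀ x ∈ R, (∀ v ∈ V ⊓ M, x * v * x⁻¹ ∈ V ⊓ M) → x ∈ R ⊓ normalizer ((V ⊓ M : Subgroup G) : Set G) := by
      intro x hx h2
      refine ⟨hx, ?_⟩
      exact mem_normalizer_fintype fun v hv => h2 v hv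
    have hT : T ≤ R ⊓ normalizer ((V ⊓ M : Subgroup G) : Set G) := by
      intro t ht
      refine hK t (s.TR ht) ?_
      rintro v ⟨hvV, hvM⟩
      have h2 := s.conjM (s.TR ht) hvM
      exact ⟨y.mem_V s hex h2 (y.line_T s ht hvM (y.line_of s hvM hvV)), h2⟩
    have hne : R ⊓ normalizer ((V ⊓ M : Subgroup G) : Set G) ≠ R := by
      intro h2
      obtain ⟨x, hx, h3⟩ := y.lift (w3 F)
      have h4 : x ∈ R ⊓ normalizer ((V ⊓ M : Subgroup G) : Set G) := by rw [h2]; exact hx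
      have h5 := (mem_normalizer_iff.1 h4.2 h).1 (show h ∈ V ⊓ M from ⟨s.hV, s.hM⟩)
      have h6 := y.line_of s h5.2 h5.1
      rw [h3 h s.hM, ap_one', y.h_line s] at h6
      apply y.h_ne0 s
      simpa [w3] using h6
    have hle : R ⊓ normalizer ((V ⊓ M : Subgroup G) : Set G) ≤ M0 := by
      by_contra hcon
      exact hne (s.min _ hT inf_le_left hcon)
    exact hle (hK g hg h1)

theorem F3 [Finite F] : ∀ B ∈ Rel, ∀ c ∈ B, c ∉ o2 R → ∀ x ∈ R, x ∉ M0 → x * c * x⁻¹ ∉ M0 := by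
  intro B hB c hc hco x hx hxM hcon
  have hBo : ¬ B ≤ o2 R := fun h0 => hco (h0 hc)
  have hcT := s.QT (s.relQ B hB hc)
  obtain ⟨γ, h1⟩ := (y.off B hB hBo).1 c hc
  have hγ : γ ≠ 0 := by
    rintro rfl
    rw [up_zero] at h1
    exact hco (s.kerT hcT (y.mem_KR_of s (s.TR hcT) h1))
  rw [y.stab s hex hx] at hxM
  push Not at hxM
  obtain ⟨v, hv, hxv⟩ := hxM
  have h2 : y.e (x * v * x⁻¹) 1 ≠ 0 := fun h0 => hxv ⟨y.mem_V s hex (s.conjM hx hv.2) h0, s.conjM hx hv.2⟩
  obtain ⟨B', hB'⟩ := y.norm x hx c (s.TR hcT) _ h1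
  refine y.moved s hx (s.TR hcT) hv.2 h1 hγ (y.line_of s hv.2 hv.1) h2 hB' (y.not_low s ?_)
  exact ⟨_, mul_mem (mul_mem hx (s.TR hcT)) (inv_mem hx), hcon, hB'⟩

theorem F2 [Finite F] : ∀ B ∈ Rel, ∀ b ∈ B, ∀ m ∈ M, b * m * b⁻¹ * m⁻¹ ∈ V := by
  intro B hB b hb m hm
  have hbR := s.TR (s.QT (s.relQ B hB hb))
  by_cases hBo : B ≤ o2 R
  · exact s.DV ((s.o2_le_KR (hBo hb)).2 m hm)
  · obtain ⟨c, h1⟩ := (y.off B hB hBo).1 b hb
    have h2 : b * m * b⁻¹ * m⁻¹ ∈ M := mul_mem (s.conjM hbR hm) (inv_mem hm)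
    refine y.mem_V s hex h2 ?_
    have h3 : y.e (b * m * b⁻¹ * m⁻¹) + y.e m = y.e (b * m * b⁻¹) := by
      rw [← y.mul _ h2 m hm, inv_mul_cancel_right]
    rw [h1 m hm] at h3
    have h4 := congrFun h3 1
    rw [Pi.add_apply, ap_up1] at h4
    exact add_eq_right.1 h4

theorem card [Finite F] : D.relIndex (V ⊓ M) = Nat.card F := by
  let f : (V ⊓ M : Subgroup G) →* Multiplicative F :=
    { toFun := fun v => Multiplicative.ofAdd (y.e v 0)
      map_one' := by
        rw [OneMemClass.coe_one, (y.ker 1 (one_mem _)).2 (one_mem _)]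
        rfl
      map_mul' := fun v w => by
        rw [Subgroup.coe_mul, y.mul v v.2.2 w w.2.2]
        rfl }
  have h1 : D.subgroupOf (V ⊓ M) = f.ker := by
    ext v
    rw [mem_subgroupOf, MonoidHom.mem_ker, ← y.ker v v.2.2]
    have h2 := y.line_of s v.2.2 v.2.1
    constructor
    · intro h3
      change Multiplicative.ofAdd (y.e v 0) = 1
      rw [h3]
      rfl
    · intro h3
      exact ext2 (Multiplicative.ofAdd.injective h3) h2
  have h2 : f.range = ⊤ := by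
    rw [MonoidHom.range_eq_top]
    intro c
    obtain ⟨v, hv, he⟩ := y.surj ![c.toAdd, 0]
    have h3 : v ∈ V := y.mem_V s hex hv (by rw [he]; rfl)
    refine ⟨⟨v, h3, hv⟩, ?_⟩
    change Multiplicative.ofAdd (y.e v 0) = c
    rw [he]
    rfl
  rw [relIndex, h1, index_ker, h2]
  rw [Nat.card_congr (Equiv.trans Subgroup.topEquiv.toEquiv Multiplicative.toAdd)]

omit hex in
theorem cardM [Finite F] : D.relIndex M = Nat.card F ^ 2 := by
  let f : M →* Multiplicative (Fin 2 → F) :=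
    { toFun := fun v => Multiplicative.ofAdd (y.e v)
      map_one' := by
        rw [OneMemClass.coe_one, (y.ker 1 (one_mem _)).2 (one_mem _)]
        rfl
      map_mul' := fun v w => by
        rw [Subgroup.coe_mul, y.mul v v.2 w w.2]
        rfl }
  have h1 : D.subgroupOf M = f.ker := by
    ext v
    rw [mem_subgroupOf, MonoidHom.mem_ker, ← y.ker v v.2]
    constructor
    · intro h3
      change Multiplicative.ofAdd (y.e v) = 1
      rw [h3]
      rfl
    · intro h3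
      exact Multiplicative.ofAdd.injective h3
  have h2 : f.range = ⊤ := by
    rw [MonoidHom.range_eq_top]
    intro c
    obtain ⟨v, hv, he⟩ := y.surj c.toAdd
    refine ⟨⟨v, hv⟩, ?_⟩
    change Multiplicative.ofAdd (y.e v) = c
    rw [he]
    rfl
  rw [relIndex, h1, index_ker, h2]
  rw [Nat.card_congr (Equiv.trans Subgroup.topEquiv.toEquiv Multiplicative.toAdd), Nat.card_fun]
  simp

omit hex in
theorem cardB [Finite F] : ∀ B ∈ Rel, ¬ B ≤ o2 R → (o2 R).relIndex B = Nat.card F := by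
  intro B hB hBo
  obtain ⟨h1, h2⟩ := y.off B hB hBo
  choose! c hc using h1
  have hBR : ∀ b ∈ B, b ∈ R := fun b hb => s.TR (s.QT (s.relQ B hB hb))
  let f : B →* Multiplicative F :=
    { toFun := fun b => Multiplicative.ofAdd (c b)
      map_one' := by
        have h3 := (hc 1 (one_mem _)).inj y ActO.one
        rw [← up_zero] at h3
        rw [OneMemClass.coe_one, up_inj h3]
        rfl
      map_mul' := fun a b => by
        have h3 := (hc a a.2).mul s.RM (hc b b.2) (hBR b b.2)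
        rw [up_mul] at h3
        have h4 := (hc (a * b : B) (a * b : B).2).inj y h3
        rw [up_inj h4]
        rfl }
  have h3 : (o2 R).subgroupOf B = f.ker := by
    ext b
    rw [mem_subgroupOf, MonoidHom.mem_ker]
    constructor
    · intro h4
      change Multiplicative.ofAdd (c b) = 1
      have h5 := y.act_one s (s.o2_le_KR h4) (hc b b.2)
      rw [← up_zero] at h5
      rw [up_inj h5]
      rfl
    · intro h4
      have h5 : c b = 0 := Multiplicative.ofAdd.injective h4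
      have h6 := hc b b.2
      rw [h5, up_zero] at h6
      exact s.kerT (s.QT (s.relQ B hB b.2)) (y.mem_KR_of s (hBR b b.2) h6)
  have h4 : f.range = ⊤ := by
    rw [MonoidHom.range_eq_top]
    intro d
    obtain ⟨b, hb, h5⟩ := h2 d.toAdd
    refine ⟨⟨b, hb⟩, ?_⟩
    change Multiplicative.ofAdd (c b) = d
    rw [up_inj ((hc b hb).inj y h5)]
    rfl
  rw [relIndex, h3, index_ker, h4]
  rw [Nat.card_congr (Equiv.trans Subgroup.topEquiv.toEquiv Multiplicative.toAdd)]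

/-- The conclusion. -/
def out [Finite F] : Out F V Q T R M0 D E M h Rel where
  e := y.e
  mul := y.mul
  surj := y.surj
  ker := y.ker
  lift := y.lift
  norm := y.norm
  line v hv := y.mem_VM s hex hv
  root B hB hBo := y.off B hB hBo
  eq := hex
  card := y.card s hex
  cardM := y.cardM s
  F1 B hB hBo := by rw [y.cardB s B hB hBo, y.card s hex]
  F2 := y.F2 s hex
  F3 := y.F3 s hex
  stab g hg := y.stab s hex hg
  kerR g hg h1 := ⟨s.KR_le ⟨hg, h1⟩, fun v hv => s.ker_E ⟨hg, h1⟩ hv⟩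

end One

/-- **THE FF STEP.** -/
theorem Stp.out (s : Stp V Q T R M0 D E M h Rel) (hA : AStmt.{u}) :
    ∃ (F : Type) (_ : Field F) (_ : Finite F) (_ : CharP F 2), Nonempty (Out F V Q T R M0 D E M h Rel) := by
  obtain ⟨hex, h1 | h1⟩ := s.concl hA
  · obtain ⟨F, hF1, hF2, hF3, k, hk, ⟨y⟩⟩ := h1
    obtain rfl := y.one_block s hex hk
    obtain ⟨z⟩ := y.one s
    exact ⟨F, hF1, hF2, hF3, ⟨z.out s hex⟩⟩
  · obtain ⟨k, m, -, hm, ⟨y⟩⟩ := h1
    exact (y.false s hex hm).elim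

end Cfsg.Agent.Omega.NO3S.SN2.FF
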