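import Cfsg.Agent.Omega.NO3S.SN2.FF.Abs

/-!
# The FF step: basic facts

* `Stp.gen_le` : `R = ⟨elements of odd order, T⟩`;
* `odd_comm` : an element of odd order of `R` which fixes `uD` centralises `u`;
* `Stp.kerT` : an element of `T` which is trivial on `M / D` is in `O₂(R)`;
* `Stp.ker_M0`, `Stp.ker_E` : the kernel of `R` on `M / D` is in `M0` and `[M, ker] ≤ E`.
-/

set_option autoImplicit false
set_option linter.unusedSectionVars false

namespace Cfsg.Agent.Omega.NO3S.SN2.FF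

open Subgroup Cfsg Cfsg.Agent.ZN Cfsg.Agent.Omega.FFBr
open Cfsg.Agent.MinSimple.MinParabolic Cfsg.Agent.MinSimple.VModule

universe u

variable {G : Type u} [Group G]

/-- An element of odd order which fixes `uD` (`D` central, exponent 2) centralises `u`. -/
theorem odd_comm {g u d : G} (ho : Odd (orderOf g)) (h1 : g * u * g⁻¹ = d * u) (h2 : g * d = d * g)
    (hd : d * d = 1) : g * u = u * g := by
  have key : ∀ n : ℕ, g ^ n * u * (g ^ n)⁻¹ = d ^ n * u := by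
    intro n
    induction n with
    | zero => simp
    | succ n ih =>
      have e1 : g ^ (n + 1) * u * (g ^ (n + 1))⁻¹ = g * (g ^ n * u * (g ^ n)⁻¹) * g⁻¹ := by
        rw [pow_succ']; group
      have hc : Commute g (d ^ n) := (show Commute g d from h2).pow_right n
      have e2 : g * (d ^ n * u) * g⁻¹ = d ^ n * (g * u * g⁻¹) := by
        calc g * (d ^ n * u) * g⁻¹ = (g * d ^ n) * u * g⁻¹ := by group
          _ = (d ^ n * g) * u * g⁻¹ := by rw [hc.eq]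
          _ = _ := by group
      rw [e1, ih, e2, h1, ← mul_assoc, ← pow_succ]
  have h3 := key (orderOf g)
  rw [pow_orderOf_eq_one] at h3
  simp only [one_mul, inv_one, mul_one] at h3
  obtain ⟨k, hk⟩ := ho
  have h4 : d ^ orderOf g = d := by
    rw [hk, pow_succ, pow_mul, sq, hd, one_pow, one_mul]
  rw [h4] at h3
  have h5 : d = 1 := by
    have := mul_right_cancel (h3.symm.trans (one_mul u).symm)
    exact this
  rw [h5, one_mul, mul_inv_eq_iff_eq_mul] at h1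
  exact h1

/-- two-part and odd part -/
theorem exists_parts [Finite G] (g : G) : ∃ a b : ℕ, g = g ^ a * g ^ b ∧ (∃ n, (g ^ a) ^ 2 ^ n = 1) ∧
    Odd (orderOf (g ^ b)) := by
  obtain ⟨k, r, hr, hk⟩ := Nat.exists_eq_two_pow_mul_odd (orderOf_pos g).ne'
  have hco : Nat.Coprime (2 ^ k) r := Nat.Coprime.pow_left k (Nat.coprime_two_left.2 hr)
  obtain ⟨a, ha1, ha2⟩ := Nat.chineseRemainder hco 1 0
  obtain ⟨b, hb1, hb2⟩ := Nat.chineseRemainder hco 0 1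
  refine ⟨a, b, ?_, ⟨k, ?_⟩, ?_⟩
  · rw [← pow_add]
    conv_lhs => rw [← pow_one g]
    rw [pow_eq_pow_iff_modEq, hk]
    refine (Nat.modEq_and_modEq_iff_modEq_mul hco).1 ⟨?_, ?_⟩
    · have := ha1.add hb1
      exact this.symm
    · have := ha2.add hb2
      exact this.symm
  · rw [← pow_mul]
    obtain ⟨c, hc⟩ := (Nat.modEq_zero_iff_dvd).1 ha2
    rw [hc, show r * c * 2 ^ k = orderOf g * c by rw [hk]; ring, pow_mul, pow_orderOf_eq_one, one_pow]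
  · have h1 : (g ^ b) ^ r = 1 := by
      rw [← pow_mul]
      obtain ⟨c, hc⟩ := (Nat.modEq_zero_iff_dvd).1 hb1
      rw [hc, show 2 ^ k * c * r = orderOf g * c by rw [hk]; ring, pow_mul, pow_orderOf_eq_one, one_pow]
    exact Odd.of_dvd_nat hr (orderOf_dvd_of_pow_eq_one h1)

variable [Finite G] {V Q T R M0 D E M : Subgroup G} {h : G} {Rel : Set (Subgroup G)}

namespace Stp

variable (s : Stp V Q T R M0 D E M h Rel)
include s

/-- the Sylow subgroup `T` of `R` -/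
theorem exists_sylow : ∃ P : Sylow 2 R, (P : Subgroup R) = T.subgroupOf R := by
  have hfact : Fact (Nat.Prime 2) := ⟨Nat.prime_two⟩
  have h1 : IsPGroup 2 (T.subgroupOf R) := s.two.comap_of_injective _ R.subtype_injective
  exact ⟨h1.toSylow s.syl, rfl⟩

theorem isMin {P : Sylow 2 R} (hP : (P : Subgroup R) = T.subgroupOf R) :
    IsMin (P : Subgroup R) (M0.subgroupOf R) where
  ne_top h1 := s.notM (subgroupOf_eq_top.1 h1)
  le_of K hK hK1 := by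
    by_contra hcon
    apply hK1
    have h2 : K.map R.subtype = R := by
      apply s.min
      · rw [hP] at hK
        have := map_mono (f := R.subtype) hK
        rwa [subgroupOf_map_subtype, inf_eq_left.2 s.TR] at this
      · exact map_subtype_le _
      · intro h3
        apply hcon
        rw [Subgroup.subgroupOf, ← map_le_iff_le_comap]
        exact h3
    have h5 := comap_map_eq_self_of_injective R.subtype_injective K
    rw [← h5, h2]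
    exact subgroupOf_self R

/-- a subgroup which contains `T` and the elements of odd order -/
theorem gen_le {K : Subgroup G} (hT : T ≤ K) (ho : ∀ g ∈ R, Odd (orderOf g) → g ∈ K) : R ≤ K := by
  have hfact : Fact (Nat.Prime 2) := ⟨Nat.prime_two⟩
  have hN : ((oddGen R).subgroupOf R).Normal := normal_subgroupOf_of_le_normalizer (le_normalizer_oddGen R)
  have h1 : IsPGroup 2 (R ⧸ (oddGen R).subgroupOf R) := by
    intro q
    obtain ⟨x, rfl⟩ := QuotientGroup.mk_surjective q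
    obtain ⟨a, m, hm, ha⟩ := Nat.exists_eq_pow_mul_and_not_dvd (orderOf_pos (x : G)).ne' 2 (by norm_num)
    refine ⟨a, ?_⟩
    rw [← QuotientGroup.mk_pow, QuotientGroup.eq_one_iff, mem_subgroupOf]
    refine mem_oddGen (R.pow_mem x.2 _) ?_
    have hm0 : 0 < m := Nat.pos_of_ne_zero (by rintro rfl; simp at hm)
    have h2 : orderOf ((x : G) ^ 2 ^ a) = m := by
      rw [orderOf_pow_of_dvd (by positivity) (ha ▸ Dvd.intro _ rfl), ha, Nat.mul_div_cancel_left _ (by positivity)]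
    rw [coe_pow, h2]
    exact Nat.not_even_iff_odd.1 fun h => hm h.two_dvd
  obtain ⟨k, hk⟩ := IsPGroup.iff_card.1 h1
  have h2 : (oddGen R ⊔ T).relIndex R ∣ 2 ^ k := by
    have h3 : (oddGen R ⊔ T).relIndex R ∣ (oddGen R).relIndex R := relIndex_dvd_of_le_left _ le_sup_left
    have h4 : (oddGen R).relIndex R = 2 ^ k := by
      rw [← hk, relIndex, index_eq_card]
    rwa [h4] at h3
  obtain ⟨j, -, hj⟩ := (Nat.dvd_prime_pow Nat.prime_two).1 h2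
  have h5 : (oddGen R ⊔ T).relIndex R ∣ T.relIndex R := relIndex_dvd_of_le_left _ le_sup_right
  rw [hj] at h5
  have h6 : R ≤ oddGen R ⊔ T := by
    rcases Nat.eq_zero_or_pos j with rfl | hj0
    · rw [pow_zero] at hj
      exact relIndex_eq_one.1 hj
    · exact absurd ((dvd_pow_self 2 hj0.ne').trans h5) s.syl
  refine h6.trans (sup_le ?_ hT)
  rw [oddGen_def, closure_le]
  exact fun x hx => ho x hx.1 hx.2

theorem Ds {d : G} (hd : d ∈ D) : d * d = 1 := s.Vs d (s.DV hd)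

theorem conjM {g v : G} (hg : g ∈ R) (hv : v ∈ M) : g * v * g⁻¹ ∈ M :=
  (mem_normalizer_iff.1 (s.RM hg) v).1 hv

theorem conjM' {g v : G} (hg : g ∈ R) (hv : v ∈ M) : g⁻¹ * v * g ∈ M := by
  have := s.conjM (inv_mem hg) hv
  rwa [inv_inv] at this

/-- an element of odd order of `R` which fixes `uD` centralises `u` -/
theorem odd_comm {g w : G} (hg : g ∈ R) (ho : Odd (orderOf g)) (h1 : g * w * g⁻¹ * w⁻¹ ∈ D) : g * w = w * g :=
  FF.odd_comm (d := g * w * g⁻¹ * w⁻¹) ho (by group) (s.Dc _ h1 g hg) (s.Ds h1)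

/-- `R` does not fix `uD` if `u ∈ V - D` -/
theorem notfix {w : G} (hw : w ∈ V) (hwD : w ∉ D) : ¬ ∀ g ∈ R, Odd (orderOf g) → g * w * g⁻¹ * w⁻¹ ∈ D := by
  intro h1
  apply s.notM
  exact s.gen_le s.TM fun g hg ho => s.st w hw hwD g hg (s.odd_comm hg ho (h1 g hg ho))

/-- conjugation by `x ∈ R` fixes `D` -/
theorem conjD {x d : G} (hx : x ∈ R) (hd : d ∈ D) : x * d * x⁻¹ = d := by
  rw [s.Dc d hd x hx, mul_inv_cancel_right]

theorem comm4 {a b : G} (ha : a ∈ M) (hb : b ∈ M) : a * b = b * a := s.Mc a ha b hb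

/-- `[t, v w] = [t, v] [t, w]` -/
theorem cmul {t v w : G} (ht : t ∈ R) (hv : v ∈ M) (hw : w ∈ M) :
    t * (v * w) * t⁻¹ * (v * w)⁻¹ = (t * v * t⁻¹ * v⁻¹) * (t * w * t⁻¹ * w⁻¹) := by
  have h1 : (t * w * t⁻¹) * (w⁻¹ * v⁻¹) = (w⁻¹ * v⁻¹) * (t * w * t⁻¹) :=
    s.comm4 (s.conjM ht hw) (mul_mem (inv_mem hw) (inv_mem hv))
  have h2 : w⁻¹ * v⁻¹ = v⁻¹ * w⁻¹ := s.comm4 (inv_mem hw) (inv_mem hv)
  have h3 : (t * w * t⁻¹) * w⁻¹ = w⁻¹ * (t * w * t⁻¹) := s.comm4 (s.conjM ht hw) (inv_mem hw)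
  calc t * (v * w) * t⁻¹ * (v * w)⁻¹ = (t * v * t⁻¹) * ((t * w * t⁻¹) * (w⁻¹ * v⁻¹)) := by group
    _ = (t * v * t⁻¹) * ((w⁻¹ * v⁻¹) * (t * w * t⁻¹)) := by rw [h1]
    _ = (t * v * t⁻¹) * (v⁻¹ * (w⁻¹ * (t * w * t⁻¹))) := by rw [h2]; group
    _ = _ := by rw [← h3]; group

/-- the kernel of `R` on `M / D` -/
def KR (s : Stp V Q T R M0 D E M h Rel) : Subgroup G where
  carrier := {g | g ∈ R ∧ ∀ v ∈ M, g * v * g⁻¹ * v⁻¹ ∈ D}
  one_mem' := ⟨one_mem _, fun v _ => by simp [one_mem]⟩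
  mul_mem' := by
    rintro a b ⟨ha, ha2⟩ ⟨hb, hb2⟩
    refine ⟨mul_mem ha hb, fun v hv => ?_⟩
    have h1 := ha2 _ (s.conjM hb hv)
    have h2 := mul_mem h1 (hb2 v hv)
    have e : a * b * v * (a * b)⁻¹ * v⁻¹ =
        a * (b * v * b⁻¹) * a⁻¹ * (b * v * b⁻¹)⁻¹ * (b * v * b⁻¹ * v⁻¹) := by group
    rw [e]
    exact h2
  inv_mem' := by
    rintro a ⟨ha, ha2⟩
    refine ⟨inv_mem ha, fun v hv => ?_⟩
    have h1 := inv_mem (ha2 _ (s.conjM' ha hv))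
    have e : a⁻¹ * v * a⁻¹⁻¹ * v⁻¹ = (a * (a⁻¹ * v * a) * a⁻¹ * (a⁻¹ * v * a)⁻¹)⁻¹ := by group
    rw [e]
    exact h1

omit s in
theorem mem_KR {s : Stp V Q T R M0 D E M h Rel} {g : G} :
    g ∈ s.KR ↔ g ∈ R ∧ ∀ v ∈ M, g * v * g⁻¹ * v⁻¹ ∈ D := Iff.rfl

theorem KR_conj {g x : G} (hg : g ∈ s.KR) (hx : x ∈ R) : x * g * x⁻¹ ∈ s.KR := by
  refine ⟨mul_mem (mul_mem hx hg.1) (inv_mem hx), fun v hv => ?_⟩
  have h1 := hg.2 _ (s.conjM' hx hv)
  have e : x * g * x⁻¹ * v * (x * g * x⁻¹)⁻¹ * v⁻¹ =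
      x * (g * (x⁻¹ * v * x) * g⁻¹ * (x⁻¹ * v * x)⁻¹) * x⁻¹ := by group
  rw [e, s.conjD hx h1]
  exact h1

theorem KR_normal : (s.KR.subgroupOf R).Normal := by
  refine ⟨fun g hg x => ?_⟩
  exact s.KR_conj hg x.2

/-- the stabiliser of `hD` in `R` -/
def SH (s : Stp V Q T R M0 D E M h Rel) : Subgroup G where
  carrier := {g | g ∈ R ∧ g * h * g⁻¹ * h⁻¹ ∈ D}
  one_mem' := ⟨one_mem _, by simp [one_mem]⟩
  mul_mem' := by
    rintro a b ⟨ha, ha2⟩ ⟨hb, hb2⟩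
    refine ⟨mul_mem ha hb, ?_⟩
    have h1 := s.conjD ha hb2
    have e : a * b * h * (a * b)⁻¹ * h⁻¹ = (a * (b * h * b⁻¹ * h⁻¹) * a⁻¹) * (a * h * a⁻¹ * h⁻¹) := by group
    rw [e, h1]
    exact mul_mem hb2 ha2
  inv_mem' := by
    rintro a ⟨ha, ha2⟩
    refine ⟨inv_mem ha, ?_⟩
    have h1 := s.conjD (inv_mem ha) (inv_mem ha2)
    have e : a⁻¹ * h * a⁻¹⁻¹ * h⁻¹ = a⁻¹ * (a * h * a⁻¹ * h⁻¹)⁻¹ * a⁻¹⁻¹ := by group
    rw [e, h1]
    exact inv_mem ha2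

theorem SH_ne : ¬ R ≤ s.SH := fun h1 => s.notfix s.hV s.hD fun _ hg _ => (h1 hg).2

theorem KR_le_SH : s.KR ≤ s.SH := fun _ hg => ⟨hg.1, hg.2 h s.hM⟩

theorem T_le_SH : T ≤ s.SH := fun t ht => ⟨s.TR ht, s.hT t ht⟩

theorem sup_ne {P : Sylow 2 R} (hP : (P : Subgroup R) = T.subgroupOf R) :
    s.KR.subgroupOf R ⊔ (P : Subgroup R) ≠ ⊤ := by
  intro h1
  have h2 : s.KR.subgroupOf R ⊔ (P : Subgroup R) ≤ s.SH.subgroupOf R := by
    rw [hP]
    exact sup_le (comap_mono s.KR_le_SH) (comap_mono s.T_le_SH)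
  rw [h1, top_le_iff, subgroupOf_eq_top] at h2
  exact s.SH_ne h2

/-- the kernel is in `M0` -/
theorem KR_le : s.KR ≤ M0 := by
  obtain ⟨P, hP⟩ := s.exists_sylow
  have h1 := le_sup_left.trans ((s.isMin hP).le_of _ le_sup_right (s.sup_ne hP))
  intro g hg
  exact h1 (show (⟨g, hg.1⟩ : R) ∈ s.KR.subgroupOf R from hg)

/-- an element of `T` which is trivial on `M / D` is in `O₂(R)` -/
theorem kerT {t : G} (ht : t ∈ T) (hk : t ∈ s.KR) : t ∈ o2 R := by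
  have hfact : Fact (Nat.Prime 2) := ⟨Nat.prime_two⟩
  obtain ⟨P, hP⟩ := s.exists_sylow
  have hn := s.KR_normal
  have h1 := (sup_eq_top_or_inf_le (s.isMin hP) (s.KR.subgroupOf R)).resolve_left (s.sup_ne hP)
  have h2 : (⟨t, s.TR ht⟩ : R) ∈ pCore 2 R := h1 ⟨by rw [hP]; exact ht, hk⟩
  exact ⟨_, h2, rfl⟩

/-- `[M, O₂(R)] ≤ E` -/
theorem o2_E {t v : G} (ht : t ∈ o2 R) (hv : v ∈ M) : t * v * t⁻¹ * v⁻¹ ∈ E := by
  let K : Subgroup G :=
    { carrier := {v | v ∈ M ∧ ∀ t ∈ o2 R, t * v * t⁻¹ * v⁻¹ ∈ E}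
      one_mem' := ⟨one_mem _, fun t _ => by simp [one_mem]⟩
      mul_mem' := by
        rintro a b ⟨ha, ha2⟩ ⟨hb, hb2⟩
        refine ⟨mul_mem ha hb, fun t ht => ?_⟩
        rw [s.cmul (o2_le R ht) ha hb]
        exact mul_mem (ha2 t ht) (hb2 t ht)
      inv_mem' := by
        rintro a ⟨ha, ha2⟩
        refine ⟨inv_mem ha, fun t ht => ?_⟩
        have e : a⁻¹ = a := inv_eq_of_mul_eq_one_right (s.Ms a ha)
        rw [e]
        exact ha2 t ht }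
  have h1 : M ≤ K := by
    apply s.Mgen
    · intro d hd
      refine ⟨s.DM hd, fun t ht => ?_⟩
      rw [s.conjD (o2_le R ht) hd, mul_inv_cancel]
      exact one_mem _
    · intro x hx
      refine ⟨s.conjM hx s.hM, fun t ht => ?_⟩
      have h2 : x⁻¹ * t * x ∈ o2 R := by
        have := (mem_normalizer_iff.1 (le_normalizer_o2 R (inv_mem hx)) t).1 ht
        rwa [inv_inv] at this
      have h3 := s.hO _ h2
      have e : t * (x * h * x⁻¹) * t⁻¹ * (x * h * x⁻¹)⁻¹ =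
          x * (x⁻¹ * t * x * h * (x⁻¹ * t * x)⁻¹ * h⁻¹) * x⁻¹ := by group
      rw [e, s.conjD hx (s.ED h3)]
      exact h3
  exact (h1 hv).2 t ht

theorem o2_le_KR : o2 R ≤ s.KR := fun _ ht => ⟨o2_le R ht, fun _ hv => s.ED (s.o2_E ht hv)⟩

/-- a 2-element of the kernel is in `O₂(R)` -/
theorem two_ker {g : G} (hg : g ∈ s.KR) (h2 : ∃ n, g ^ 2 ^ n = 1) : g ∈ o2 R := by
  have hfact : Fact (Nat.Prime 2) := ⟨Nat.prime_two⟩
  obtain ⟨P, hP⟩ := s.exists_sylow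
  have h3 : IsPGroup 2 (zpowers (⟨g, hg.1⟩ : R)) := by
    obtain ⟨n, hn⟩ := h2
    refine IsPGroup.of_card_dvd_pow (n := n) ?_
    rw [Nat.card_zpowers]
    apply orderOf_dvd_of_pow_eq_one
    apply Subtype.ext
    simpa using hn
  obtain ⟨P', hP'⟩ := h3.exists_le_sylow
  obtain ⟨x, hx⟩ := MulAction.exists_smul_eq R P' P
  have h4 : x * (⟨g, hg.1⟩ : R) * x⁻¹ ∈ (P : Subgroup R) := by
    rw [← hx, Sylow.coe_subgroup_smul]
    exact ⟨⟨g, hg.1⟩, hP' (mem_zpowers _), rfl⟩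
  rw [hP] at h4
  have h5 : (x : G) * g * (x : G)⁻¹ ∈ T := h4
  have h6 := s.kerT h5 (s.KR_conj hg x.2)
  have h7 := (mem_normalizer_iff.1 (le_normalizer_o2 R (inv_mem x.2)) _).1 h6
  have e : (x : G)⁻¹ * ((x : G) * g * (x : G)⁻¹) * (x : G)⁻¹⁻¹ = g := by group
  rwa [e] at h7

/-- `[M, KR] ≤ E` -/
theorem ker_E {g v : G} (hg : g ∈ s.KR) (hv : v ∈ M) : g * v * g⁻¹ * v⁻¹ ∈ E := by
  obtain ⟨a, b, h1, h2, h3⟩ := exists_parts g
  have h4 : g ^ a ∈ o2 R := s.two_ker (pow_mem hg a) h2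
  have h5 := s.odd_comm (pow_mem hg b).1 h3 ((pow_mem hg b).2 v hv)
  have h6 := s.o2_E h4 hv
  have e : g * v * g⁻¹ * v⁻¹ = g ^ a * (g ^ b * v * (g ^ b)⁻¹) * (g ^ a)⁻¹ * v⁻¹ := by
    conv_lhs => rw [h1]
    group
  rw [e, h5, mul_inv_cancel_right]
  exact h6

/-- a group which fixes all `uD`, `u ∈ M` exactly: if `g, g'` have the same action on `M / D` then `g h g⁻¹` and
`g' h g'⁻¹` are equal modulo `E`. -/
theorem same {g g' : G} (hg : g ∈ R) (hg' : g' ∈ R) (he : ∀ v ∈ M, (g * v * g⁻¹) * (g' * v * g'⁻¹)⁻¹ ∈ D)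
    {v : G} (hv : v ∈ M) : (g * v * g⁻¹) * (g' * v * g'⁻¹)⁻¹ ∈ E := by
  have h1 : g'⁻¹ * g ∈ s.KR := by
    refine ⟨mul_mem (inv_mem hg') hg, fun w hw => ?_⟩
    have h2 := s.conjD (inv_mem hg') (he w hw)
    have e : g'⁻¹ * g * w * (g'⁻¹ * g)⁻¹ * w⁻¹ = g'⁻¹ * ((g * w * g⁻¹) * (g' * w * g'⁻¹)⁻¹) * g'⁻¹⁻¹ := by group
    rw [e, h2]
    exact he w hw
  have h3 := s.ker_E h1 hv
  have e : (g * v * g⁻¹) * (g' * v * g'⁻¹)⁻¹ = g' * (g'⁻¹ * g * v * (g'⁻¹ * g)⁻¹ * v⁻¹) * g'⁻¹ := by group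
  rw [e, s.conjD hg' (s.ED h3)]
  exact h3

end Stp

end Cfsg.Agent.Omega.NO3S.SN2.FF
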