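import Cfsg.Agent.Omega.NO3S.SN2.FF.Concl

/-!
# The FF step: exactness and coordinates on `G`

`Stp.concl` : exactness and `NatG` or `SymG`.
-/

set_option autoImplicit false
set_option linter.unusedSectionVars false

namespace Cfsg.Agent.Omega.NO3S.SN2.FF

open Subgroup Cfsg Cfsg.Agent.ZN Cfsg.Agent.Omega.FFBr Cfsg.Agent.Lib.SL2Mat
open Cfsg.Agent.MinSimple.MinParabolic Cfsg.Agent.MinSimple.VModule
open Cfsg.Agent.Omega.NatPair (ap)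

universe u

variable {G : Type u} [Group G] {R M D : Subgroup G}

open Classical in
/-- coordinates on `G` -/
noncomputable def eG {α : Type} [Zero α] (e : M ⧸ D.subgroupOf M → α) (g : G) : α :=
  if hg : g ∈ M then e (QuotientGroup.mk ⟨g, hg⟩) else 0

theorem eG_mk {α : Type} [Zero α] (e : M ⧸ D.subgroupOf M → α) {g : G} (hg : g ∈ M) :
    eG e g = e (QuotientGroup.mk ⟨g, hg⟩) := dif_pos hg

variable [Finite G] {V Q T M0 E : Subgroup G} {h : G} {Rel : Set (Subgroup G)}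

namespace Stp

variable (s : Stp V Q T R M0 D E M h Rel)

section act

variable [hn : (D.subgroupOf M).Normal] [MulDistribMulAction R (M ⧸ D.subgroupOf M)]
  (hact : ∀ (g : R) (v w : M), (w : G) = g * v * (g : G)⁻¹ →
    g • (QuotientGroup.mk v : M ⧸ D.subgroupOf M) = QuotientGroup.mk w)

include hact s in
theorem eG_conj {α : Type} [Zero α] (e : M ⧸ D.subgroupOf M → α) {g v : G} (hg : g ∈ R) (hv : v ∈ M) :
    eG e (g * v * g⁻¹) = e (prG R (M ⧸ D.subgroupOf M) ⟨g, hg⟩ • (QuotientGroup.mk ⟨v, hv⟩ : M ⧸ D.subgroupOf M)) := by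
  rw [eG_mk e (s.conjM hg hv), prG_smul, hact ⟨g, hg⟩ ⟨v, hv⟩ ⟨g * v * g⁻¹, s.conjM hg hv⟩ rfl]

include hact s in
theorem actG_iff {F : Type} [Field F] {k : ℕ} (e : M ⧸ D.subgroupOf M → Fin k → Fin 2 → F)
    (hodd : odd (XG R (M ⧸ D.subgroupOf M)) (M ⧸ D.subgroupOf M) = ⊥) {g : G} (hg : g ∈ R)
    (A : Fin k → Matrix.SpecialLinearGroup (Fin 2) F) :
    AActs e (prG R (M ⧸ D.subgroupOf M) ⟨g, hg⟩) A ↔ ActG (eG e) M g A := by
  constructor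
  · rintro ⟨h1, -⟩ v hv i
    rw [s.eG_conj hact e hg hv, eG_mk e hv]
    exact h1 _ i
  · intro h1
    refine ⟨fun q i => ?_, fun d hd => ?_⟩
    · obtain ⟨v, rfl⟩ := QuotientGroup.mk_surjective q
      have h2 := h1 v v.2 i
      rw [s.eG_conj hact e hg v.2, eG_mk e v.2] at h2
      exact h2
    · rw [hodd, mem_bot] at hd
      rw [hd, smul_one]

include hact s in
theorem actP_iff {k n : ℕ} (e : M ⧸ D.subgroupOf M → Fin k → Fin n → ZMod 2) {g : G} (hg : g ∈ R)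
    (σ : Equiv.Perm (Fin k)) (τ : Fin k → Equiv.Perm (Fin n)) :
    AActsSym e (prG R (M ⧸ D.subgroupOf M) ⟨g, hg⟩) σ τ ↔ ActP (eG e) M g σ τ := by
  constructor
  · intro h1 v hv i x
    rw [s.eG_conj hact e hg hv, eG_mk e hv]
    exact h1 _ i x
  · intro h1 q i x
    obtain ⟨v, rfl⟩ := QuotientGroup.mk_surjective q
    have h2 := h1 v v.2 i x
    rw [s.eG_conj hact e hg v.2, eG_mk e v.2] at h2
    exact h2

include hact s in
theorem exists_pr (x : XG R (M ⧸ D.subgroupOf M)) : ∃ g, ∃ hg : g ∈ R, prG R (M ⧸ D.subgroupOf M) ⟨g, hg⟩ = x := by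
  obtain ⟨g, rfl⟩ := prG_surjective x
  exact ⟨g, g.2, rfl⟩

include hact s in
theorem gen_of {K : Subgroup G} (hK : ∀ g ∈ s.KR, g ∈ K)
    (h1 : (K.subgroupOf R).map (prG R (M ⧸ D.subgroupOf M)) = ⊤) : R ≤ K := by
  intro g hg
  have h2 : prG R (M ⧸ D.subgroupOf M) ⟨g, hg⟩ ∈ (K.subgroupOf R).map (prG R (M ⧸ D.subgroupOf M)) := by
    rw [h1]; trivial
  obtain ⟨k, hk, hkg⟩ := h2
  have h3 : k⁻¹ * ⟨g, hg⟩ ∈ (prG R (M ⧸ D.subgroupOf M)).ker := by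
    rw [MonoidHom.mem_ker, map_mul, map_inv, hkg, inv_mul_cancel]
  have h4 := (s.mem_ker hact).1 h3
  have h5 := mul_mem (show (k : G) ∈ K from hk) (hK _ h4)
  have e : (k : G) * ((k⁻¹ * ⟨g, hg⟩ : R) : G) = g := by
    change (k : G) * ((k : G)⁻¹ * g) = g
    group
  rwa [e] at h5

variable {P : Sylow 2 R} {S : Sylow 2 (XG R (M ⧸ D.subgroupOf M))}

include s in
theorem mem_S (hP : (P : Subgroup R) = T.subgroupOf R)
    (hS : (S : Subgroup (XG R (M ⧸ D.subgroupOf M))) = (P : Subgroup R).map (prG R (M ⧸ D.subgroupOf M)))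
    {x : XG R (M ⧸ D.subgroupOf M)} :
    x ∈ (S : Subgroup (XG R (M ⧸ D.subgroupOf M))) ↔
      ∃ t, ∃ ht : t ∈ T, prG R (M ⧸ D.subgroupOf M) ⟨t, s.TR ht⟩ = x := by
  rw [hS, hP]
  constructor
  · rintro ⟨t, ht, rfl⟩
    exact ⟨t, ht, rfl⟩
  · rintro ⟨t, ht, rfl⟩
    exact ⟨⟨t, s.TR ht⟩, ht, rfl⟩

include hact s in
/-- the natural case -/
theorem natG_of (hP : (P : Subgroup R) = T.subgroupOf R)
    (hS : (S : Subgroup (XG R (M ⧸ D.subgroupOf M))) = (P : Subgroup R).map (prG R (M ⧸ D.subgroupOf M)))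
    (hodd : odd (XG R (M ⧸ D.subgroupOf M)) (M ⧸ D.subgroupOf M) = ⊥)
    {F : Type} [Field F] {k : ℕ} (a : AbsNat F (S : Subgroup (XG R (M ⧸ D.subgroupOf M))) (M ⧸ D.subgroupOf M) k) :
    Nonempty (NatG F R T M D (o2 R) Rel k) := by
  refine ⟨{
    e := eG a.e
    mul := ?_
    surj := ?_
    ker := ?_
    lift := ?_
    norm := ?_
    perm := ?_
    trans := ?_
    line := ?_
    unip := ?_
    gen := ?_
    off := ?_ }⟩
  · intro v hv w hw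
    rw [eG_mk a.e hv, eG_mk a.e hw, eG_mk a.e (mul_mem hv hw), ← a.mul]
    rfl
  · intro x
    obtain ⟨q, hq⟩ := a.surj x
    obtain ⟨v, rfl⟩ := QuotientGroup.mk_surjective q
    exact ⟨v, v.2, by rw [eG_mk a.e v.2]; exact hq⟩
  · intro v hv
    rw [eG_mk a.e hv, a.ker, hodd, mem_bot, QuotientGroup.eq_one_iff]
    rfl
  · intro A
    obtain ⟨x, hx⟩ := a.lift A
    obtain ⟨g, hg, rfl⟩ := s.exists_pr hact x
    exact ⟨g, hg, (s.actG_iff hact a.e hodd hg A).1 hx⟩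
  · intro g hg x hx A hA
    obtain ⟨B, hB⟩ := a.norm (prG R _ ⟨g, hg⟩) (prG R _ ⟨x, hx⟩) A ((s.actG_iff hact a.e hodd hx A).2 hA).1
    refine ⟨B, fun v hv i => ?_⟩
    have h1 := hB (QuotientGroup.mk ⟨v, hv⟩) i
    rw [eG_mk a.e hv, s.eG_conj hact a.e (mul_mem (mul_mem hg hx) (inv_mem hg)) hv]
    rw [← map_inv, ← map_mul, ← map_mul] at h1
    exact h1
  · intro g hg
    obtain ⟨σ, hσ⟩ := a.perm (prG R _ ⟨g, hg⟩)
    refine ⟨σ, fun v hv i => ?_⟩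
    rw [s.eG_conj hact a.e hg hv, eG_mk a.e hv]
    exact hσ _ i
  · intro i j
    obtain ⟨x, hx, h1⟩ := a.trans i j
    obtain ⟨t, ht, rfl⟩ := (s.mem_S hP hS).1 hx
    refine ⟨t, ht, fun v hv => ?_⟩
    rw [s.eG_conj hact a.e (s.TR ht) hv, eG_mk a.e hv]
    exact h1 _
  · intro t ht
    obtain ⟨σ, hσ⟩ := a.line (prG R _ ⟨t, s.TR ht⟩) ((s.mem_S hP hS).2 ⟨t, ht, rfl⟩)
    refine ⟨σ, fun v hv i => ?_⟩
    rw [s.eG_conj hact a.e (s.TR ht) hv, eG_mk a.e hv]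
    exact hσ _ i
  · intro b
    obtain ⟨x, hx, h1⟩ := a.unip b
    obtain ⟨t, ht, rfl⟩ := (s.mem_S hP hS).1 hx
    exact ⟨t, ht, (s.actG_iff hact a.e hodd (s.TR ht) _).1 h1⟩
  · intro K hTK hK
    have hKR : ∀ g ∈ s.KR, g ∈ K := by
      intro g hg
      refine hK g hg.1 1 ((s.actG_iff hact a.e hodd hg.1 1).1 ?_)
      have h1 : prG R (M ⧸ D.subgroupOf M) ⟨g, hg.1⟩ = 1 := (s.mem_ker hact).2 hg
      rw [h1]
      refine ⟨fun v i => ?_, fun d _ => one_smul _ d⟩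
      rw [one_smul, Pi.one_apply, NatPair.ap_one]
    refine s.gen_of hact hKR (a.gen _ ?_ ?_)
    · intro x hx
      obtain ⟨t, ht, rfl⟩ := (s.mem_S hP hS).1 hx
      exact ⟨⟨t, s.TR ht⟩, hTK ht, rfl⟩
    · intro x A hx
      obtain ⟨g, hg, rfl⟩ := s.exists_pr hact x
      exact ⟨⟨g, hg⟩, hK g hg A ((s.actG_iff hact a.e hodd hg A).1 hx), rfl⟩
  · intro B hB hBo
    have hBT := (s.relQ B hB).trans s.QT
    obtain ⟨I, h1, h2⟩ := a.off (im B) (by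
      rintro _ ⟨b, hb, rfl⟩
      exact (s.mem_S hP hS).2 ⟨b, hBT hb, rfl⟩) (s.aoff hact hB hBo)
    refine ⟨I, fun b hb => ?_, fun c hc => ?_⟩
    · obtain ⟨c, hc, hc'⟩ := h1 (prG R _ ⟨b, s.TR (hBT hb)⟩) ⟨⟨b, s.TR (hBT hb)⟩, hb, rfl⟩
      exact ⟨c, hc, (s.actG_iff hact a.e hodd (s.TR (hBT hb)) _).1 hc'⟩
    · obtain ⟨_, ⟨⟨b, hbR⟩, hb, rfl⟩, hb'⟩ := h2 c hc
      exact ⟨b, hb, (s.actG_iff hact a.e hodd hbR _).1 hb'⟩

include hact s in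
/-- the symmetric case -/
theorem symG_of (hP : (P : Subgroup R) = T.subgroupOf R)
    (hS : (S : Subgroup (XG R (M ⧸ D.subgroupOf M))) = (P : Subgroup R).map (prG R (M ⧸ D.subgroupOf M)))
    (hodd : odd (XG R (M ⧸ D.subgroupOf M)) (M ⧸ D.subgroupOf M) = ⊥)
    {k m : ℕ} (a : AbsSym (S : Subgroup (XG R (M ⧸ D.subgroupOf M))) (M ⧸ D.subgroupOf M) k m) :
    Nonempty (SymG R T M D (o2 R) Rel k m) := by
  have hfact : Fact (Nat.Prime 2) := ⟨Nat.prime_two⟩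
  have htriv : ∀ d ∈ odd (XG R (M ⧸ D.subgroupOf M)) (M ⧸ D.subgroupOf M), ∀ x : XG R (M ⧸ D.subgroupOf M),
      x • d = d := by
    intro d hd x
    rw [hodd, mem_bot] at hd
    rw [hd, smul_one]
  refine ⟨{
    e := eG a.e
    mul := ?_
    even := ?_
    surj := ?_
    ker := ?_
    lift := ?_
    perm := ?_
    trans := ?_
    fix0 := ?_
    gen := ?_
    off := ?_
    syl := ?_ }⟩
  · intro v hv w hw
    rw [eG_mk a.e hv, eG_mk a.e hw, eG_mk a.e (mul_mem hv hw), ← a.mul]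
    rfl
  · intro v hv i
    rw [eG_mk a.e hv]
    exact a.even _ i
  · intro x hx
    obtain ⟨q, hq⟩ := a.surj x hx
    obtain ⟨v, rfl⟩ := QuotientGroup.mk_surjective q
    exact ⟨v, v.2, by rw [eG_mk a.e v.2]; exact hq⟩
  · intro v hv
    rw [eG_mk a.e hv, a.ker, hodd, mem_bot, QuotientGroup.eq_one_iff]
    rfl
  · intro τ
    obtain ⟨x, hx, -⟩ := a.lift τ
    obtain ⟨g, hg, rfl⟩ := s.exists_pr hact x
    exact ⟨g, hg, (s.actP_iff hact a.e hg 1 τ).1 hx⟩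
  · intro g hg
    obtain ⟨σ, τ, h1⟩ := a.perm (prG R _ ⟨g, hg⟩)
    exact ⟨σ, τ, (s.actP_iff hact a.e hg σ τ).1 h1⟩
  · intro i j
    obtain ⟨x, hx, σ, τ, h1, h2⟩ := a.trans i j
    obtain ⟨t, ht, rfl⟩ := (s.mem_S hP hS).1 hx
    exact ⟨t, ht, σ, τ, (s.actP_iff hact a.e (s.TR ht) σ τ).1 h1, h2⟩
  · intro t ht σ τ h1 i
    exact a.fix0 (prG R _ ⟨t, s.TR ht⟩) ((s.mem_S hP hS).2 ⟨t, ht, rfl⟩) σ τ
      ((s.actP_iff hact a.e (s.TR ht) σ τ).2 h1) i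
  · intro K hTK hK
    have hKR : ∀ g ∈ s.KR, g ∈ K := by
      intro g hg
      refine hK g hg.1 1 ((s.actP_iff hact a.e hg.1 1 1).1 ?_)
      have h1 : prG R (M ⧸ D.subgroupOf M) ⟨g, hg.1⟩ = 1 := (s.mem_ker hact).2 hg
      rw [h1]
      intro v i x
      rw [one_smul]
      rfl
    refine s.gen_of hact hKR (a.gen _ ?_ ?_)
    · intro x hx
      obtain ⟨t, ht, rfl⟩ := (s.mem_S hP hS).1 hx
      exact ⟨⟨t, s.TR ht⟩, hTK ht, rfl⟩
    · intro x τ hx _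
      obtain ⟨g, hg, rfl⟩ := s.exists_pr hact x
      exact ⟨⟨g, hg⟩, hK g hg τ ((s.actP_iff hact a.e hg 1 τ).1 hx), rfl⟩
  · intro B hB hBo b hb
    have hBT := (s.relQ B hB).trans s.QT
    obtain ⟨-, h2⟩ := a.off (im B) (by
      rintro _ ⟨b, hb, rfl⟩
      exact (s.mem_S hP hS).2 ⟨b, hBT hb, rfl⟩) (s.aoff hact hB hBo)
    obtain ⟨τ, h3, h4⟩ := h2 (prG R _ ⟨b, s.TR (hBT hb)⟩) ⟨⟨b, s.TR (hBT hb)⟩, hb, rfl⟩
    refine ⟨τ, (s.actP_iff hact a.e (s.TR (hBT hb)) 1 τ).1 h3, fun i x hx => ?_⟩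
    obtain ⟨h5, _, ⟨⟨c, hcR⟩, hc, rfl⟩, h6⟩ := h4 i x hx
    exact ⟨h5, c, hc, (s.actP_iff hact a.e hcR _ _).1 h6⟩
  · intro K hKR hK
    have h2 : IsPGroup 2 ((K.subgroupOf R).map (prG R (M ⧸ D.subgroupOf M))) := by
      rintro ⟨_, ⟨g, hg, rfl⟩⟩
      obtain ⟨n, hn⟩ := hK g hg
      refine ⟨n, ?_⟩
      apply Subtype.ext
      change (prG R (M ⧸ D.subgroupOf M) g) ^ 2 ^ n = 1
      rw [← map_pow]
      exact (s.mem_ker hact).2 ⟨(g ^ 2 ^ n).2, fun v hv => by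
        rw [coe_pow]
        exact hn v hv⟩
    obtain ⟨S', hS'⟩ := h2.exists_le_sylow
    obtain ⟨x, hx⟩ := MulAction.exists_smul_eq (XG R (M ⧸ D.subgroupOf M)) S' S
    obtain ⟨x, hxR, rfl⟩ := s.exists_pr hact x
    refine ⟨x, hxR, fun g hg => ?_⟩
    have h3 : prG R (M ⧸ D.subgroupOf M) ⟨x, hxR⟩ * prG R (M ⧸ D.subgroupOf M) ⟨g, hKR hg⟩ *
        (prG R (M ⧸ D.subgroupOf M) ⟨x, hxR⟩)⁻¹ ∈ (S : Subgroup (XG R (M ⧸ D.subgroupOf M))) := by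
      rw [← hx, Sylow.coe_subgroup_smul]
      exact ⟨_, hS' ⟨⟨g, hKR hg⟩, hg, rfl⟩, rfl⟩
    obtain ⟨t, ht, h4⟩ := (s.mem_S hP hS).1 h3
    refine ⟨t, ht, ?_⟩
    rw [← map_inv, ← map_mul, ← map_mul] at h4
    exact (s.pr_eq_iff hact).1 h4.symm

end act

/-- **Exactness and the FF theorem for `M / D`.** -/
theorem concl (s : Stp V Q T R M0 D E M h Rel) (hA : AStmt.{u}) :
    (∀ B ∈ Rel, ∀ u ∈ M, (∀ b ∈ B, b * u * b⁻¹ * u⁻¹ ∈ D) → ∀ b ∈ B, b * u = u * b) ∧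
    ((∃ (F : Type) (_ : Field F) (_ : Finite F) (_ : CharP F 2) (k : ℕ),
        0 < k ∧ Nonempty (NatG F R T M D (o2 R) Rel k)) ∨
      ∃ k m : ℕ, 0 < k ∧ 2 ≤ m ∧ Nonempty (SymG R T M D (o2 R) Rel k m)) := by
  have hn := s.normalD
  let _ : MulDistribMulAction R (M ⧸ D.subgroupOf M) := qact s.RM s.Dc hn
  have hact : ∀ (g : R) (v w : M), (w : G) = g * v * (g : G)⁻¹ →
      g • (QuotientGroup.mk v : M ⧸ D.subgroupOf M) = QuotientGroup.mk w := by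
    intro g v w hw
    change QuotientGroup.mk ((act s.RM g : M ≃* M) v) = (QuotientGroup.mk w : M ⧸ D.subgroupOf M)
    congr 1
    exact Subtype.ext hw.symm
  obtain ⟨P, S, hP, hS, habs⟩ := s.abs hact
  obtain ⟨B0, hB0, hB1⟩ := s.ex
  obtain ⟨hno, hc⟩ := hA _ _ S _ habs ⟨_, s.aoff hact hB0 hB1⟩
  have hex := s.exact hact hno
  refine ⟨hex, ?_⟩
  have hBS : ∀ B ∈ Rel, (im B : Subgroup (XG R (M ⧸ D.subgroupOf M))) ≤ (S : Subgroup (XG R (M ⧸ D.subgroupOf M))) := by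
    rintro B hB _ ⟨b, hb, rfl⟩
    exact (s.mem_S hP hS).2 ⟨b, s.QT (s.relQ B hB hb), rfl⟩
  have htr : ∀ B ∈ Rel, B ≤ o2 R → ∀ x ∈ (im B : Subgroup (XG R (M ⧸ D.subgroupOf M))), x = 1 := by
    rintro B hB hBo _ ⟨b, hb, rfl⟩
    exact (s.mem_ker hact).2 (s.o2_le_KR (hBo hb))
  rcases hc with ⟨F, hF1, hF2, hF3, k, hk, ⟨a⟩⟩ | ⟨k, m, hk, hm, ⟨a⟩⟩
  · left
    refine ⟨F, hF1, hF2, hF3, k, hk, s.natG_of hact hP hS ?_ a⟩
    refine s.odd_bot hact hex fun B hB x hx d hd => ?_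
    by_cases hBo : B ≤ o2 R
    · rw [htr B hB hBo x hx, one_smul]
    · obtain ⟨I, h1, -⟩ := a.off _ (hBS B hB) (s.aoff hact hB hBo)
      obtain ⟨b, -, h2⟩ := h1 x hx
      exact h2.2 d hd
  · right
    refine ⟨k, m, hk, hm, s.symG_of hact hP hS ?_ a⟩
    refine s.odd_bot hact hex fun B hB x hx d hd => ?_
    by_cases hBo : B ≤ o2 R
    · rw [htr B hB hBo x hx, one_smul]
    · exact (a.off _ (hBS B hB) (s.aoff hact hB hBo)).1 x hx d hd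

end Stp

end Cfsg.Agent.Omega.NO3S.SN2.FF
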