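import Cfsg.Agent.Omega.NO3S.SN2.FF.Basic

/-!
# The FF step: the lemma on elements of order 3

If `x ∈ R` acts on `M / D` with `x q x⁻¹ ≡ x` or `x²` (and the squares), `q` centralises `h`, then
`[q, (x h x⁻¹)(x² h x⁻²)] ∈ E`.
-/

set_option autoImplicit false
set_option linter.unusedSectionVars false

namespace Cfsg.Agent.Omega.NO3S.SN2.FF

open Subgroup Cfsg Cfsg.Agent.ZN

universe u

variable {G : Type u} [Group G]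

/-- the same action on `M / D` -/
def Sim (D M : Subgroup G) (g g' : G) : Prop := ∀ v ∈ M, (g * v * g⁻¹) * (g' * v * g'⁻¹)⁻¹ ∈ D

variable [Finite G] {V Q T R M0 D E M : Subgroup G} {h : G} {Rel : Set (Subgroup G)}

namespace Stp

variable (s : Stp V Q T R M0 D E M h Rel)
include s

theorem qh {q : G} (hq : q ∈ Q) : q * h * q⁻¹ = h := by
  have h1 : h * q = q * h := mem_centralizer_iff.1 (s.QV hq) h s.hV
  rw [← h1, mul_inv_cancel_right]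

theorem qv {q v : G} (hq : q ∈ Q) (hv : v ∈ V) : q * v * q⁻¹ = v := by
  have h1 : v * q = q * v := mem_centralizer_iff.1 (s.QV hq) v hv
  rw [← h1, mul_inv_cancel_right]

theorem x3 {x q : G} (hx : x ∈ R) (hq : q ∈ R) (hqh : q * h * q⁻¹ = h)
    (h1 : (Sim D M (q * x * q⁻¹) x ∧ Sim D M ((q * x * q⁻¹) ^ 2) (x ^ 2)) ∨
      (Sim D M (q * x * q⁻¹) (x ^ 2) ∧ Sim D M ((q * x * q⁻¹) ^ 2) x)) :
    q * ((x * h * x⁻¹) * (x ^ 2 * h * (x ^ 2)⁻¹)) * q⁻¹ * ((x * h * x⁻¹) * (x ^ 2 * h * (x ^ 2)⁻¹))⁻¹ ∈ E := by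
  have hy : q * x * q⁻¹ ∈ R := mul_mem (mul_mem hq hx) (inv_mem hq)
  set y := q * x * q⁻¹ with hydef
  have e1 : q * (x * h * x⁻¹) * q⁻¹ = y * h * y⁻¹ := by
    have e : q * (x * h * x⁻¹) * q⁻¹ = y * (q * h * q⁻¹) * y⁻¹ := by rw [hydef]; group
    rw [e, hqh]
  have e2 : q * (x ^ 2 * h * (x ^ 2)⁻¹) * q⁻¹ = y ^ 2 * h * (y ^ 2)⁻¹ := by
    have hy2 : y ^ 2 = q * x ^ 2 * q⁻¹ := by rw [hydef, conj_pow]
    have e : q * (x ^ 2 * h * (x ^ 2)⁻¹) * q⁻¹ = y ^ 2 * (q * h * q⁻¹) * (y ^ 2)⁻¹ := by rw [hy2]; group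
    rw [e, hqh]
  have e3 : q * ((x * h * x⁻¹) * (x ^ 2 * h * (x ^ 2)⁻¹)) * q⁻¹ = (y * h * y⁻¹) * (y ^ 2 * h * (y ^ 2)⁻¹) := by
    rw [← e1, ← e2]; group
  rw [e3]
  have hA : y * h * y⁻¹ ∈ M := s.conjM hy s.hM
  have hB : y ^ 2 * h * (y ^ 2)⁻¹ ∈ M := s.conjM (pow_mem hy 2) s.hM
  have hA' : x * h * x⁻¹ ∈ M := s.conjM hx s.hM
  have hB' : x ^ 2 * h * (x ^ 2)⁻¹ ∈ M := s.conjM (pow_mem hx 2) s.hM
  set A := y * h * y⁻¹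
  set B := y ^ 2 * h * (y ^ 2)⁻¹
  set A' := x * h * x⁻¹
  set B' := x ^ 2 * h * (x ^ 2)⁻¹
  rcases h1 with ⟨h2, h3⟩ | ⟨h2, h3⟩
  · have h4 : A * A'⁻¹ ∈ E := s.same hy hx h2 s.hM
    have h5 : B * B'⁻¹ ∈ E := s.same (pow_mem hy 2) (pow_mem hx 2) h3 s.hM
    have e : A * B * (A' * B')⁻¹ = (A * A'⁻¹) * (B * B'⁻¹) := by
      have c1 : B'⁻¹ * A'⁻¹ = A'⁻¹ * B'⁻¹ := s.Mc _ (inv_mem hB') _ (inv_mem hA')
      have c2 : B * A'⁻¹ = A'⁻¹ * B := s.Mc _ hB _ (inv_mem hA')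
      calc A * B * (A' * B')⁻¹ = A * B * (B'⁻¹ * A'⁻¹) := by rw [mul_inv_rev]
        _ = A * (B * A'⁻¹) * B'⁻¹ := by rw [c1]; group
        _ = _ := by rw [c2]; group
    rw [e]
    exact mul_mem h4 h5
  · have h4 : A * B'⁻¹ ∈ E := s.same hy (pow_mem hx 2) h2 s.hM
    have h5 : B * A'⁻¹ ∈ E := s.same (pow_mem hy 2) hx h3 s.hM
    have e : A * B * (A' * B')⁻¹ = (A * B'⁻¹) * (B * A'⁻¹) := by
      have c2 : B * B'⁻¹ = B'⁻¹ * B := s.Mc _ hB _ (inv_mem hB')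
      calc A * B * (A' * B')⁻¹ = A * (B * B'⁻¹) * A'⁻¹ := by rw [mul_inv_rev]; group
        _ = _ := by rw [c2]; group
    rw [e]
    exact mul_mem h4 h5

/-- if `w ∈ u D` then `[q, w] = [q, u]` -/
theorem comm_eq {q w v : G} (hq : q ∈ R) (hv : v ∈ M) (hw : w ∈ M) (hd : w * v⁻¹ ∈ D) :
    q * v * q⁻¹ * v⁻¹ = q * w * q⁻¹ * w⁻¹ := by
  have h1 := s.conjD hq hd
  have e1 : q * w * q⁻¹ = (w * v⁻¹) * (q * v * q⁻¹) := by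
    have e : q * w * q⁻¹ = (q * (w * v⁻¹) * q⁻¹) * (q * v * q⁻¹) := by group
    rw [e, h1]
  rw [e1]
  have hb : q * v * q⁻¹ ∈ M := s.conjM hq hv
  have c1 : (w * v⁻¹) * (q * v * q⁻¹) = (q * v * q⁻¹) * (w * v⁻¹) := s.Mc _ (mul_mem hw (inv_mem hv)) _ hb
  have c2 : w * v⁻¹ * w⁻¹ = v⁻¹ := by
    rw [s.Mc _ hw _ (inv_mem hv), mul_inv_cancel_right]
  rw [c1]
  calc q * v * q⁻¹ * v⁻¹ = q * v * q⁻¹ * (w * v⁻¹ * w⁻¹) := by rw [c2]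
    _ = _ := by group

end Stp

end Cfsg.Agent.Omega.NO3S.SN2.FF
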