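import Cfsg.Agent.Omega.NO3S.SN2.FF.ConclEnd
import Cfsg.Agent.Omega.NO3S.SN2.FF.XThree

/-!
# The FF step: the natural case, basic facts
-/

set_option autoImplicit false
set_option linter.unusedSectionVars false

namespace Cfsg.Agent.Omega.NO3S.SN2.FF

open Subgroup Cfsg Cfsg.Agent.ZN Cfsg.Agent.Omega.FFBr Cfsg.Agent.Lib.SL2Mat
open Cfsg.Agent.Omega.NatPair (ap ap_zero' ap_one' ap_mul ap_one ap_add ap_inv_ap ap_ap_inv ap_inj ext2)

universe u

section actg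

variable {G : Type u} [Group G] {F : Type} [Field F] {k : ℕ} {e : G → Fin k → Fin 2 → F} {R M : Subgroup G}

/-- the matrix `A` in the block `i` -/
abbrev um (i : Fin k) (A : Matrix.SpecialLinearGroup (Fin 2) F) : Fin k → Matrix.SpecialLinearGroup (Fin 2) F :=
  Function.update 1 i A

theorem um_mul (i : Fin k) (A B : Matrix.SpecialLinearGroup (Fin 2) F) : um i A * um i B = um i (A * B) :=
  (Pi.mulSingle_mul i _ _).symm

theorem um_pow (i : Fin k) (A : Matrix.SpecialLinearGroup (Fin 2) F) (N : ℕ) : um i A ^ N = um i (A ^ N) :=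
  (Pi.mulSingle_pow i _ _).symm

theorem um_inv (i : Fin k) (A : Matrix.SpecialLinearGroup (Fin 2) F) : (um i A)⁻¹ = um i A⁻¹ :=
  (Pi.mulSingle_inv i _).symm

theorem um_one (i : Fin k) : um i (1 : Matrix.SpecialLinearGroup (Fin 2) F) = 1 := Pi.mulSingle_one i

theorem um_same (i : Fin k) (A : Matrix.SpecialLinearGroup (Fin 2) F) : um i A i = A := Function.update_self ..

theorem um_ne {i j : Fin k} (h : j ≠ i) (A : Matrix.SpecialLinearGroup (Fin 2) F) : um i A j = 1 :=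
  Function.update_of_ne h ..

theorem ap0 (A : Matrix.SpecialLinearGroup (Fin 2) F) : ap A 0 = 0 := by
  apply ext2
  · rw [ap_zero']; simp
  · rw [ap_one']; simp

theorem ap_up0 (a : F) (x : Fin 2 → F) : ap (up a) x 0 = x 0 + a * x 1 := by
  rw [ap_zero', up_00, up_01, one_mul]

theorem ap_up1 (a : F) (x : Fin 2 → F) : ap (up a) x 1 = x 1 := by
  rw [ap_one', up_10, up_11, one_mul, zero_mul, zero_add]

theorem ap_up_fix {a : F} {x : Fin 2 → F} (h : x 1 = 0) : ap (up a) x = x := by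
  apply ext2
  · rw [ap_up0, h, mul_zero, add_zero]
  · rw [ap_up1]

theorem ActG.one : ActG e M 1 1 := by
  intro v _ i
  rw [Pi.one_apply, ap_one, one_mul, inv_one, mul_one]

theorem ActG.mul (hRM : R ≤ normalizer (M : Set G)) {g g' : G} {A A' : Fin k → Matrix.SpecialLinearGroup (Fin 2) F}
    (h : ActG e M g A) (h' : ActG e M g' A') (hg' : g' ∈ R) : ActG e M (g * g') (A * A') := by
  intro v hv i
  have h1 := h (g' * v * g'⁻¹) ((mem_normalizer_iff.1 (hRM hg') v).1 hv) i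
  have e1 : g * g' * v * (g * g')⁻¹ = g * (g' * v * g'⁻¹) * g⁻¹ := by group
  rw [e1, h1, h' v hv, Pi.mul_apply, ap_mul]

theorem ActG.inv (hRM : R ≤ normalizer (M : Set G)) {g : G} {A : Fin k → Matrix.SpecialLinearGroup (Fin 2) F}
    (h : ActG e M g A) (hg : g ∈ R) : ActG e M g⁻¹ A⁻¹ := by
  intro v hv i
  have h1 := h (g⁻¹ * v * g⁻¹⁻¹) ((mem_normalizer_iff.1 (hRM (inv_mem hg)) v).1 hv) i
  have e1 : g * (g⁻¹ * v * g⁻¹⁻¹) * g⁻¹ = v := by group
  rw [e1] at h1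
  rw [h1, Pi.inv_apply, ap_inv_ap]

theorem ActG.pow (hRM : R ≤ normalizer (M : Set G)) {g : G} {A : Fin k → Matrix.SpecialLinearGroup (Fin 2) F}
    (h : ActG e M g A) (hg : g ∈ R) (N : ℕ) : ActG e M (g ^ N) (A ^ N) := by
  induction N with
  | zero => rw [pow_zero, pow_zero]; exact ActG.one
  | succ N ih => rw [pow_succ, pow_succ]; exact ih.mul hRM h hg

end actg

section w3

variable {F : Type} [Field F] [CharP F 2]

/-- an element of order 3 of `SL₂(F)` -/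
def w3 (F : Type) [Field F] [CharP F 2] : Matrix.SpecialLinearGroup (Fin 2) F :=
  mk 0 1 1 1 (by
    rw [zero_mul, one_mul, zero_sub]
    exact CharTwo.neg_eq 1)

theorem c2 (a : F) : a + a = 0 := CharTwo.add_self_eq_zero a

theorem w3_up (c : F) : w3 F * up c * (w3 F)⁻¹ = lo c := by
  rw [mul_inv_eq_iff_eq_mul]
  refine ext_ent ?_ ?_ ?_ ?_ <;> simp [ent_mul, w3]

theorem w3_cube : w3 F ^ 3 = 1 := by
  rw [pow_succ, sq]
  refine ext_ent ?_ ?_ ?_ ?_ <;> simp [ent_mul, w3, c2]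

end w3

section nat

variable {G : Type u} [Group G] [Finite G] {V Q T R M0 D E M : Subgroup G} {h : G} {Rel : Set (Subgroup G)}

variable {F : Type} [Field F] {k : ℕ}

namespace NatG

variable (y : NatG F R T M D (o2 R) Rel k) (s : Stp V Q T R M0 D E M h Rel)
  (hex : ∀ B ∈ Rel, ∀ u ∈ M, (∀ b ∈ B, b * u * b⁻¹ * u⁻¹ ∈ D) → ∀ b ∈ B, b * u = u * b)

include s

/-- `e v = e w` iff `v w⁻¹ ∈ D` -/
theorem e_eq {v w : G} (hv : v ∈ M) (hw : w ∈ M) : y.e v = y.e w ↔ v * w⁻¹ ∈ D := by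
  have h0 : y.e 1 = 0 := (y.ker 1 (one_mem _)).2 (one_mem _)
  have h1 : y.e (v * w⁻¹) + y.e w = y.e v := by
    rw [← y.mul _ (mul_mem hv (inv_mem hw)) w hw, inv_mul_cancel_right]
  rw [← y.ker _ (mul_mem hv (inv_mem hw))]
  constructor
  · intro h2
    rw [h2] at h1
    exact add_eq_right.1 h1
  · intro h2
    rw [h2, zero_add] at h1
    exact h1.symm

theorem sim_of {g g' : G} {A : Fin k → Matrix.SpecialLinearGroup (Fin 2) F} (hg : g ∈ R) (hg' : g' ∈ R)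
    (h13 : ActG y.e M g A) (h14 : ActG y.e M g' A) : Sim D M g g' := by
  intro v hv
  rw [← y.e_eq s (s.conjM hg hv) (s.conjM hg' hv)]
  funext j
  rw [h13 v hv, h14 v hv]

omit s in
/-- the matrices induced by `M0` -/
def WW (y : NatG F R T M D (o2 R) Rel k) (s : Stp V Q T R M0 D E M h Rel) :
    Subgroup (Fin k → Matrix.SpecialLinearGroup (Fin 2) F) where
  carrier := {A | ∃ g ∈ R, g ∈ M0 ∧ ActG y.e M g A}
  one_mem' := ⟨1, one_mem _, one_mem _, ActG.one⟩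
  mul_mem' := by
    rintro a b ⟨g, hg, hg0, h1⟩ ⟨g', hg', hg0', h2⟩
    exact ⟨g * g', mul_mem hg hg', mul_mem hg0 hg0', h1.mul s.RM h2 hg'⟩
  inv_mem' := by
    rintro a ⟨g, hg, hg0, h1⟩
    exact ⟨g⁻¹, inv_mem hg, inv_mem hg0, h1.inv s.RM hg⟩

theorem mem_WW {g : G} {A : Fin k → Matrix.SpecialLinearGroup (Fin 2) F} (hg : g ∈ R) (h1 : ActG y.e M g A)
    (h2 : A ∈ y.WW s) : g ∈ M0 := by
  obtain ⟨g', hg', hg0, h3⟩ := h2
  have h4 := y.sim_of s hg hg' h1 h3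
  have h5 : g'⁻¹ * g ∈ s.KR := by
    refine ⟨mul_mem (inv_mem hg') hg, fun w hw => ?_⟩
    have h6 := s.conjD (inv_mem hg') (h4 w hw)
    have e : g'⁻¹ * g * w * (g'⁻¹ * g)⁻¹ * w⁻¹ = g'⁻¹ * ((g * w * g⁻¹) * (g' * w * g'⁻¹)⁻¹) * g'⁻¹⁻¹ := by group
    rw [e, h6]
    exact h4 w hw
  have h6 := mul_mem hg0 (s.KR_le h5)
  have e : g' * (g'⁻¹ * g) = g := by group
  rwa [e] at h6

/-- the root subgroups are in `M0` -/
theorem up_WW (i : Fin k) (c : F) : um i (up c) ∈ y.WW s := by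
  obtain ⟨t, ht, h1⟩ := y.unip (Pi.single i c)
  refine ⟨t, s.TR ht, s.TM ht, fun v hv j => ?_⟩
  rw [h1 v hv j]
  beta_reduce
  by_cases hj : j = i
  · subst hj
    rw [um_same, Pi.single_eq_same]
  · rw [um_ne hj, Pi.single_eq_of_ne hj, up_zero]

/-- `M0` does not induce all lower triangular matrices -/
theorem not_all (h1 : ∀ i (c : F), um i (lo c) ∈ y.WW s) : False := by
  apply s.notM
  have hW : ∀ i (A : Matrix.SpecialLinearGroup (Fin 2) F), um i A ∈ y.WW s := by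
    intro i A
    obtain ⟨a, b, c, d, rfl⟩ := exists_up_lo A
    rw [← um_mul, ← um_mul, ← um_mul]
    exact mul_mem (mul_mem (mul_mem (y.up_WW s i a) (h1 i b)) (y.up_WW s i c)) (h1 i d)
  have hW' : ∀ A, A ∈ y.WW s := fun A => Subgroup.pi_mem_of_mulSingle_mem A fun i => hW i (A i)
  exact y.gen M0 s.TM fun g hg τ h1 => y.mem_WW s hg h1 (hW' τ)

include hex in
/-- the vectors of the line are centralised by `Rel` -/
theorem cent {v : G} (hv : v ∈ M) (hl : ∀ i, y.e v i 1 = 0) : ∀ B ∈ Rel, ∀ b ∈ B, b * v = v * b := by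
  intro B hB
  refine hex B hB v hv fun c hc => ?_
  have hcR : c ∈ R := s.TR (s.QT (s.relQ B hB hc))
  by_cases hBo : B ≤ o2 R
  · exact (s.o2_le_KR (hBo hc)).2 v hv
  · obtain ⟨I, h2, -⟩ := y.off B hB hBo
    obtain ⟨b, -, h3⟩ := h2 c hc
    rw [← y.e_eq s (s.conjM hcR hv) hv]
    funext i
    rw [h3 v hv i, ap_up_fix (hl i)]

theorem eh {t : G} (ht : t ∈ T) : y.e (t * h * t⁻¹) = y.e h :=
  (y.e_eq s (s.conjM (s.TR ht) s.hM) s.hM).2 (s.hT t ht)

/-- `h` is on the line -/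
theorem h_line (i : Fin k) : y.e h i 1 = 0 := by
  obtain ⟨t, ht, h1⟩ := y.unip fun _ => 1
  have h2 := h1 h s.hM i
  rw [y.eh s ht] at h2
  have h3 := congrFun h2 0
  rw [ap_up0, one_mul] at h3
  exact left_eq_add.1 h3

theorem h_ne (i : Fin k) : y.e h i ≠ 0 := by
  intro h0
  apply s.hD
  rw [← y.ker h s.hM]
  funext j
  obtain ⟨t, ht, h1⟩ := y.trans i j
  have h2 := (h1 h s.hM).2 h0
  rw [y.eh s ht] at h2
  exact h2

theorem h_ne0 (i : Fin k) : y.e h i 0 ≠ 0 := fun h0 => y.h_ne s i (ext2 h0 (y.h_line s i))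

/-- `T` preserves the line -/
theorem line_T {t v : G} (ht : t ∈ T) (hv : v ∈ M) (hl : ∀ i, y.e v i 1 = 0) : ∀ i, y.e (t * v * t⁻¹) i 1 = 0 := by
  intro i
  obtain ⟨σ, h1⟩ := y.line t ht
  obtain ⟨j, rfl⟩ := σ.surjective i
  exact (h1 v hv j).2 (hl j)

include hex in
/-- if a vector `u` of the line is not in `V` then `V` is on the line -/
theorem V_line {u : G} (hu : u ∈ M) (hl : ∀ i, y.e u i 1 = 0) (huV : u ∉ V) :
    ∀ v ∈ V, ∃ q ∈ Q, q * u * q⁻¹ = v * u ∧ v ∈ M ∧ y.e (q * u * q⁻¹) = y.e v + y.e u ∧ ∀ i, y.e v i 1 = 0 := by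
  intro v hv
  obtain ⟨q, hq, h1⟩ := ((s.lemY u hu (y.cent s hex hu hl)).resolve_left huV) v hv
  have h2 : v = q * u * q⁻¹ * u⁻¹ := by rw [h1, mul_inv_cancel_right]
  have hc := s.conjM (s.TR (s.QT hq)) hu
  have hvM : v ∈ M := by
    rw [h2]
    exact mul_mem hc (inv_mem hu)
  have h3 : y.e (q * u * q⁻¹) = y.e v + y.e u := by rw [h1, y.mul v hvM u hu]
  refine ⟨q, hq, h1, hvM, h3, fun i => ?_⟩
  have h4 := y.line_T s (s.QT hq) hu hl i
  rw [h3, Pi.add_apply, Pi.add_apply, hl i, add_zero] at h4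
  exact h4

end NatG

end nat

end Cfsg.Agent.Omega.NO3S.SN2.FF
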