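import Cfsg.Agent.Omega.NO3S.SN2.FF.ConclEnd

/-!
# The FF step: the case of the even-subset modules of `S_{2^m+1}`, basic facts

* `ActP` : calculus of permutations;
* `pv i x y` : the pair `{x, y}` of the block `i`; `TP i x y` : the transposition `(x y)` is induced by `T`;
* `tp_unique`, `exists_two` : the pairs of `T` of a block are disjoint; a block has two of them;
* `cent` : the vectors `pv i x y`, `TP i x y`, are centralised by all members of `Rel`.
-/

set_option autoImplicit false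
set_option linter.unusedSectionVars false

namespace Cfsg.Agent.Omega.NO3S.SN2.FF

open Subgroup Cfsg Cfsg.Agent.ZN Cfsg.Agent.Omega.FFBr
open Cfsg.Agent.MinSimple.VModule

universe u

/-- An odd power which is `1` modulo `3`. -/
theorem exists_odd_pow {G : Type*} [Group G] [Finite G] (g : G) : ∃ n : ℕ, Odd (orderOf (g ^ n)) ∧ n ≡ 1 [MOD 3] := by
  obtain ⟨k, r, hr, hk⟩ := Nat.exists_eq_two_pow_mul_odd (orderOf_pos g).ne'
  have hr3 : Odd (r * 3) := hr.mul (by decide)
  have hco : Nat.Coprime (2 ^ k) (r * 3) := Nat.Coprime.pow_left k (Nat.coprime_two_left.2 hr3)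
  obtain ⟨n, hn1, hn2⟩ := Nat.chineseRemainder hco 0 1
  refine ⟨n, ?_, ?_⟩
  · have h1 : (g ^ n) ^ r = 1 := by
      rw [← pow_mul]
      obtain ⟨c, rfl⟩ := (Nat.modEq_zero_iff_dvd).1 hn1
      rw [show 2 ^ k * c * r = orderOf g * c by rw [hk]; ring, pow_mul, pow_orderOf_eq_one, one_pow]
    exact Odd.of_dvd_nat hr (orderOf_dvd_of_pow_eq_one h1)
  · exact Nat.ModEq.of_dvd (Dvd.intro_left r rfl) hn2

theorem pow_eq_of_mod {G : Type*} [Group G] {c : G} {n : ℕ} (hc : c ^ 3 = 1) (hn : n ≡ 1 [MOD 3]) : c ^ n = c := by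
  have h2 : c ^ n = c ^ 1 := pow_eq_pow_of_modEq hn hc
  rw [h2, pow_one]

theorem aii {α : Type*} (f : Equiv.Perm α) (x : α) : f (f⁻¹ x) = x := Equiv.apply_symm_apply f x

theorem iai {α : Type*} (f : Equiv.Perm α) (x : α) : f⁻¹ (f x) = x := Equiv.symm_apply_apply f x

section perm

variable {k n : ℕ}

/-- the pair `{x, y}` of the block `i` -/
def pv (i : Fin k) (x y : Fin n) : Fin k → Fin n → ZMod 2 := Pi.single i (Pi.single x 1 + Pi.single y 1)

theorem pv_same (i : Fin k) (x y z : Fin n) : pv i x y i z = (if z = x then 1 else 0) + if z = y then 1 else 0 := by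
  rw [pv, Pi.single_eq_same, Pi.add_apply, Pi.single_apply, Pi.single_apply]

theorem pv_ne {i j : Fin k} (h : j ≠ i) (x y : Fin n) : pv i x y j = 0 := Pi.single_eq_of_ne h _

theorem pv_apply (i j : Fin k) (x y z : Fin n) :
    pv i x y j z = if j = i then ((if z = x then 1 else 0) + if z = y then 1 else 0) else 0 := by
  by_cases h : j = i
  · subst h
    rw [pv_same, if_pos rfl]
  · rw [pv_ne h, if_neg h]
    rfl

theorem pv_comm (i : Fin k) (x y : Fin n) : pv i x y = pv i y x := by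
  rw [pv, pv, add_comm]

theorem pv_even (i : Fin k) (x y : Fin n) (j : Fin k) : ∑ z, pv i x y j z = 0 := by
  by_cases h : j = i
  · subst h
    simp only [pv_same, Finset.sum_add_distrib, Finset.sum_ite_eq', Finset.mem_univ, if_true]
    decide
  · rw [pv_ne h]
    simp

theorem pv_left {i : Fin k} {x y : Fin n} (h : x ≠ y) : pv i x y i x = 1 := by
  rw [pv_same, if_pos rfl, if_neg h, add_zero]

theorem pv_ne_zero {i : Fin k} {x y : Fin n} (h : x ≠ y) : pv i x y ≠ 0 := by
  intro h0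
  have := pv_left (i := i) h
  rw [h0] at this
  exact zero_ne_one this

theorem z2 (a : ZMod 2) : a + a = 0 := by
  revert a; decide

theorem z2f {α : Type*} {β : Type*} (f : α → β → ZMod 2) : f + f = 0 := by
  funext i x
  exact z2 _

theorem z2eq {α : Type*} {β : Type*} {f g : α → β → ZMod 2} : f + g = 0 ↔ f = g := by
  constructor
  · intro h
    have : f = f + g + g := by rw [add_assoc, z2f, add_zero]
    rw [this, h, zero_add]
  · rintro rfl
    exact z2f f

theorem pv_eq {i j : Fin k} {x y x' y' : Fin n} (hxy : x ≠ y) (h : pv i x y = pv j x' y') :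
    i = j ∧ ((x = x' ∧ y = y') ∨ (x = y' ∧ y = x')) := by
  have h1 := congrFun (congrFun h i) x
  have h2 := congrFun (congrFun h i) y
  rw [pv_left hxy, pv_apply] at h1
  rw [pv_comm, pv_left hxy.symm, pv_apply] at h2
  by_cases hij : i = j
  · rw [if_pos hij] at h1 h2
    refine ⟨hij, ?_⟩
    by_cases e1 : x = x'
    · by_cases e2 : y = y'
      · exact Or.inl ⟨e1, e2⟩
      · rw [if_neg e2] at h2
        have e3 : y ≠ x' := fun h => hxy (e1.trans h.symm)
        rw [if_neg e3, add_zero] at h2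
        exact absurd h2 (by decide)
    · rw [if_neg e1, zero_add] at h1
      have e2 : x = y' := by
        by_contra hcon
        rw [if_neg hcon] at h1
        exact absurd h1 (by decide)
      right
      refine ⟨e2, ?_⟩
      by_contra hcon
      have e3 : y ≠ y' := fun h => hxy (e2.trans h.symm)
      rw [if_neg hcon, if_neg e3, add_zero] at h2
      exact absurd h2 (by decide)
  · rw [if_neg hij] at h1
    exact absurd h1 (by decide)

end perm

variable {G : Type u} [Group G]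

section actp

variable {k n : ℕ} {e : G → Fin k → Fin n → ZMod 2} {R M : Subgroup G}

theorem ActP.one : ActP e M 1 1 1 := by
  intro v _ i x
  simp

theorem ActP.mul (hRM : R ≤ normalizer (M : Set G)) {g g' : G} {σ σ' : Equiv.Perm (Fin k)}
    {τ τ' : Fin k → Equiv.Perm (Fin n)} (h : ActP e M g σ τ) (h' : ActP e M g' σ' τ') (hg' : g' ∈ R) :
    ActP e M (g * g') (σ * σ') (fun i => τ (σ' i) * τ' i) := by
  intro v hv i x
  have h1 := h (g' * v * g'⁻¹) ((mem_normalizer_iff.1 (hRM hg') v).1 hv) (σ' i) (τ' i x)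
  rw [h' v hv] at h1
  have e1 : g * g' * v * (g * g')⁻¹ = g * (g' * v * g'⁻¹) * g⁻¹ := by group
  rw [e1]
  exact h1

theorem ActP.mul1 (hRM : R ≤ normalizer (M : Set G)) {g g' : G}
    {τ τ' : Fin k → Equiv.Perm (Fin n)} (h : ActP e M g 1 τ) (h' : ActP e M g' 1 τ') (hg' : g' ∈ R) :
    ActP e M (g * g') 1 (τ * τ') := by
  have h1 := h.mul hRM h' hg'
  intro v hv i x
  exact h1 v hv i x

theorem ActP.inv (hRM : R ≤ normalizer (M : Set G)) {g : G} {σ : Equiv.Perm (Fin k)}
    {τ : Fin k → Equiv.Perm (Fin n)} (h : ActP e M g σ τ) (hg : g ∈ R) :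
    ActP e M g⁻¹ σ⁻¹ (fun i => (τ (σ⁻¹ i))⁻¹) := by
  intro v hv i x
  have h1 := h (g⁻¹ * v * g⁻¹⁻¹) ((mem_normalizer_iff.1 (hRM (inv_mem hg)) v).1 hv) (σ⁻¹ i) ((τ (σ⁻¹ i))⁻¹ x)
  have e1 : g * (g⁻¹ * v * g⁻¹⁻¹) * g⁻¹ = v := by group
  rw [e1, aii, aii] at h1
  exact h1.symm

theorem ActP.inv1 (hRM : R ≤ normalizer (M : Set G)) {g : G} {τ : Fin k → Equiv.Perm (Fin n)}
    (h : ActP e M g 1 τ) (hg : g ∈ R) : ActP e M g⁻¹ 1 τ⁻¹ := by
  have h1 := h.inv hRM hg
  intro v hv i x
  exact h1 v hv i x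

theorem ActP.pow (hRM : R ≤ normalizer (M : Set G)) {g : G} {τ : Fin k → Equiv.Perm (Fin n)}
    (h : ActP e M g 1 τ) (hg : g ∈ R) (N : ℕ) : ActP e M (g ^ N) 1 (τ ^ N) := by
  induction N with
  | zero => rw [pow_zero, pow_zero]; exact ActP.one
  | succ N ih => rw [pow_succ, pow_succ]; exact ih.mul1 hRM h hg

theorem ActP.pv {g v : G} {σ : Equiv.Perm (Fin k)} {τ : Fin k → Equiv.Perm (Fin n)} (h : ActP e M g σ τ)
    (hv : v ∈ M) {i : Fin k} {x y : Fin n} (he : e v = pv i x y) :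
    e (g * v * g⁻¹) = FF.pv (σ i) (τ i x) (τ i y) := by
  funext j z
  obtain ⟨j, rfl⟩ := σ.surjective j
  obtain ⟨z, rfl⟩ := (τ j).surjective z
  rw [h v hv, he, pv_apply, pv_apply]
  by_cases hj : j = i
  · subst hj
    simp
  · rw [if_neg hj, if_neg (fun h0 => hj (σ.injective h0))]

/-- conjugation -/
theorem ActP.conj (hRM : R ≤ normalizer (M : Set G)) {g x : G} {σ : Equiv.Perm (Fin k)}
    {τ : Fin k → Equiv.Perm (Fin n)} (hx : ActP e M x σ τ) (hxR : x ∈ R) {i : Fin k} {π : Equiv.Perm (Fin n)}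
    (hg : ActP e M g 1 (Function.update 1 i π)) (hgR : g ∈ R) :
    ActP e M (x * g * x⁻¹) 1 (Function.update 1 (σ i) (τ i * π * (τ i)⁻¹)) := by
  have h1 := (hx.mul hRM hg hgR).mul hRM (hx.inv hRM hxR) (inv_mem hxR)
  intro v hv j z
  have h2 := h1 v hv j z
  have e0 : (σ * 1 * σ⁻¹ : Equiv.Perm (Fin k)) = 1 := by rw [mul_one, mul_inv_cancel]
  rw [e0] at h2
  have h3 : ((τ ((1 : Equiv.Perm (Fin k)) (σ⁻¹ j)) * (Function.update 1 i π : Fin k → Equiv.Perm (Fin n)) (σ⁻¹ j)) *
      (τ (σ⁻¹ j))⁻¹) z = (Function.update 1 (σ i) (τ i * π * (τ i)⁻¹) : Fin k → Equiv.Perm (Fin n)) j z := by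
    by_cases hj : j = σ i
    · subst hj
      rw [Function.update_self, iai, Function.update_self]
      rfl
    · have hj' : σ⁻¹ j ≠ i := fun h0 => hj (by rw [← h0, aii])
      rw [Function.update_of_ne hj, Function.update_of_ne hj']
      simp
  rw [← h3]
  exact h2

end actp

end Cfsg.Agent.Omega.NO3S.SN2.FF
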