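import Cfsg.Agent.Omega.NO3S.SN2.FF.NatB
import Cfsg.Agent.Omega.NO3S.SN2.FF.SymB

/-!
# The FF step: the natural case, there is only one block
-/

set_option autoImplicit false
set_option linter.unusedSectionVars false

namespace Cfsg.Agent.Omega.NO3S.SN2.FF

open Subgroup Cfsg Cfsg.Agent.ZN Cfsg.Agent.Omega.FFBr Cfsg.Agent.Lib.SL2Mat
open Cfsg.Agent.Omega.NatPair (ap ap_zero' ap_one' ap_mul ap_one ap_add ap_inv_ap ap_ap_inv ap_inj ext2)

universe u

variable {G : Type u} [Group G] [Finite G] {V Q T R M0 D E M : Subgroup G} {h : G} {Rel : Set (Subgroup G)}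

variable {F : Type} [Field F] [CharP F 2] {k : ℕ}

/-- `v` is a nonzero vector of the line of the block `i` -/
structure Sing (e : G → Fin k → Fin 2 → F) (M : Subgroup G) (i : Fin k) (v : G) : Prop where
  mem : v ∈ M
  off : ∀ l, l ≠ i → e v l = 0
  line : e v i 1 = 0
  ne : e v i 0 ≠ 0

omit [Finite G] [CharP F 2] in
theorem Sing.all {e : G → Fin k → Fin 2 → F} {i : Fin k} {v : G} (h : Sing e M i v) : ∀ l, e v l 1 = 0 := by
  intro l
  by_cases hl : l = i
  · subst hl
    exact h.line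
  · rw [h.off l hl]
    rfl

namespace NatG

variable (y : NatG F R T M D (o2 R) Rel k) (s : Stp V Q T R M0 D E M h Rel)
  (hex : ∀ B ∈ Rel, ∀ u ∈ M, (∀ b ∈ B, b * u * b⁻¹ * u⁻¹ ∈ D) → ∀ b ∈ B, b * u = u * b)

omit [CharP F 2] in
theorem exists_sing (i : Fin k) {α : F} (hα : α ≠ 0) : ∃ v, Sing y.e M i v ∧ y.e v i 0 = α := by
  obtain ⟨v, hv, he⟩ := y.surj (Pi.single i ![α, 0])
  have h1 : y.e v i = ![α, 0] := by rw [he, Pi.single_eq_same]
  refine ⟨v, ⟨hv, fun l hl => ?_, ?_, ?_⟩, ?_⟩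
  · rw [he, Pi.single_eq_of_ne hl]
  · rw [h1]; rfl
  · rw [h1]; exact hα
  · rw [h1]; rfl

include y s

/-- `M0` does not contain elements of order 3 of all blocks -/
theorem not_three (h1 : ∀ i, ∃ j, j ≠ i ∧ ∃ u ∈ V, Sing y.e M j u) : False := by
  apply y.not_all s
  intro i c
  obtain ⟨j, hji, u, huV, hu⟩ := h1 i
  have huD : u ∉ D := by
    intro h0
    have h2 := (y.ker u hu.mem).2 h0
    apply hu.ne
    rw [h2]
    rfl
  have hw : um i (w3 F) ∈ y.WW s := by
    obtain ⟨g, hg, h2⟩ := y.lift (um i (w3 F))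
    obtain ⟨n, hn, hn1⟩ := exists_odd_pow g
    have h3 := h2.pow s.RM hg n
    rw [um_pow, pow_eq_of_mod w3_cube hn1] at h3
    have hgn : g ^ n ∈ R := pow_mem hg n
    have h4 : y.e (g ^ n * u * (g ^ n)⁻¹) = y.e u := by
      funext l
      rw [h3 u hu.mem l]
      by_cases hl : l = i
      · subst hl
        rw [hu.off l (Ne.symm hji), ap0]
      · rw [um_ne hl, ap_one]
    have h5 := s.odd_comm hgn hn ((y.e_eq s (s.conjM hgn hu.mem) hu.mem).1 h4)
    exact ⟨g ^ n, hgn, s.st u huV huD _ hgn h5, h3⟩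
  have h2 := mul_mem (mul_mem hw (y.up_WW s i c)) (inv_mem hw)
  rw [um_inv, um_mul, um_mul, w3_up] at h2
  exact h2

include hex in
/-- a vector of a block which is not in `V` -/
theorem sing_not {i j : Fin k} (hij : j ≠ i) {u : G} (hu : Sing y.e M i u) (huV : u ∉ V) :
    (∀ l, l = i ∨ l = j) ∧ y.e h i 0 = y.e u i 0 := by
  obtain ⟨q, hq, -, -, h3, -⟩ := y.V_line s hex hu.mem hu.all huV h s.hV
  obtain ⟨σ, h4⟩ := y.perm q (s.TR (s.QT hq))
  have h5 : ∀ l, l ≠ i → l = σ i := by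
    intro l hl
    by_contra hcon
    obtain ⟨l', rfl⟩ := σ.surjective l
    have h6 : y.e (q * u * q⁻¹) (σ l') = 0 :=
      (h4 u hu.mem l').2 (hu.off l' fun h0 => hcon (by rw [h0]))
    rw [h3, Pi.add_apply, hu.off _ hl, add_zero] at h6
    exact y.h_ne s _ h6
  have hj := h5 j hij
  refine ⟨fun l => ?_, ?_⟩
  · by_cases hl : l = i
    · exact Or.inl hl
    · exact Or.inr ((h5 l hl).trans hj.symm)
  · obtain ⟨i', hi'⟩ := σ.surjective i
    have h6 : y.e (q * u * q⁻¹) (σ i') = 0 :=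
      (h4 u hu.mem i').2 (hu.off i' fun h0 => hij (by rw [h0] at hi'; exact hj.trans hi'))
    rw [hi', h3, Pi.add_apply] at h6
    have h7 := congrFun h6 0
    rw [Pi.add_apply, Pi.zero_apply] at h7
    have h8 : y.e h i 0 = -y.e u i 0 := eq_neg_of_add_eq_zero_left h7
    rw [h8, CharTwo.neg_eq]

include hex in
/-- **There are no two blocks, if `|F| > 2` or there are three blocks.** -/
theorem false_of_big {i j : Fin k} (hij : j ≠ i) (hbig : (∃ l, l ≠ i ∧ l ≠ j) ∨ ∃ α : F, α ≠ 0 ∧ α ≠ 1) : False := by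
  have key : ∀ l, ∃ u ∈ V, Sing y.e M l u := by
    intro l
    obtain ⟨l', hl'⟩ : ∃ l', l' ≠ l := by
      by_cases h0 : l = i
      · exact ⟨j, by rw [h0]; exact hij⟩
      · exact ⟨i, Ne.symm h0⟩
    rcases hbig with ⟨m, hm1, hm2⟩ | ⟨α, hα, hα1⟩
    · obtain ⟨u, hu, -⟩ := y.exists_sing l (one_ne_zero (α := F))
      by_contra hcon
      push Not at hcon
      have huV : u ∉ V := fun h0 => hcon u h0 hu
      obtain ⟨h1, -⟩ := y.sing_not s hex hl' hu huV
      have e1 := h1 i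
      have e2 := h1 j
      have e3 := h1 m
      rcases e1 with e1 | e1 <;> rcases e2 with e2 | e2 <;> rcases e3 with e3 | e3
      all_goals first
        | exact hij (e2.trans e1.symm)
        | exact hm1 (e3.trans e1.symm)
        | exact hm2 (e3.trans e2.symm)
    · obtain ⟨u, hu, hu1⟩ := y.exists_sing l (mul_ne_zero hα (y.h_ne0 s l))
      by_contra hcon
      push Not at hcon
      have huV : u ∉ V := fun h0 => hcon u h0 hu
      obtain ⟨-, h1⟩ := y.sing_not s hex hl' hu huV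
      rw [hu1] at h1
      apply hα1
      have h2 := y.h_ne0 s l
      have h3 : 1 * y.e h l 0 = α * y.e h l 0 := by rw [one_mul]; exact h1
      exact (mul_right_cancel₀ h2 h3).symm
  refine y.not_three s fun i' => ?_
  by_cases h0 : i' = i
  · exact ⟨j, by rw [h0]; exact hij, key j⟩
  · exact ⟨i, Ne.symm h0, key i⟩

end NatG

/-- elements of order 3 of `SL₂(2)` -/
theorem order3 (hF : ∀ α : F, α = 0 ∨ α = 1) {B : Matrix.SpecialLinearGroup (Fin 2) F} (h1 : B ≠ 1) (h3 : B ^ 3 = 1) :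
    B = w3 F ∨ B = w3 F ^ 2 := by
  have hd := det_eq B
  have hw2 : (w3 F) ^ 2 = mk 1 1 1 0 (by rw [mul_zero, mul_one, zero_sub]; exact CharTwo.neg_eq 1) := by
    rw [sq]
    refine ext_ent ?_ ?_ ?_ ?_ <;> simp [ent_mul, w3, c2]
  have hn : (-1 : F) = 1 := CharTwo.neg_eq 1
  rw [hw2]
  have e3 : B * B * B = 1 := by rw [← h3, pow_succ, sq]
  have f00 := congrArg (fun X => ent X 0 0) e3
  have f01 := congrArg (fun X => ent X 0 1) e3
  have f10 := congrArg (fun X => ent X 1 0) e3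
  have f11 := congrArg (fun X => ent X 1 1) e3
  simp only [ent_mul, ent_one_00, ent_one_01, ent_one_10, ent_one_11] at f00 f01 f10 f11
  rcases hF (ent B 0 0) with a | a <;> rcases hF (ent B 0 1) with b | b <;> rcases hF (ent B 1 0) with c | c <;>
    rcases hF (ent B 1 1) with d | d <;> rw [a, b, c, d] at hd f00 f01 f10 f11
  all_goals first
    | (exfalso; revert hd; simp; done)
    | (exfalso; revert f01; simp [c2]; done)
    | (exfalso; revert f10; simp [c2]; done)
    | (exfalso; apply h1; refine ext_ent ?_ ?_ ?_ ?_ <;> simp [a, b, c, d]; done)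
    | (left; refine ext_ent ?_ ?_ ?_ ?_ <;> simp [w3, a, b, c, d]; done)
    | (right; refine ext_ent ?_ ?_ ?_ ?_ <;> simp [a, b, c, d])

end Cfsg.Agent.Omega.NO3S.SN2.FF
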