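import Cfsg.Agent.Omega.NO3S.SN2.FF.NatC

/-!
# The FF step: the natural case, there are no two blocks with `|F| = 2`
-/

set_option autoImplicit false
set_option linter.unusedSectionVars false

namespace Cfsg.Agent.Omega.NO3S.SN2.FF

open Subgroup Cfsg Cfsg.Agent.ZN Cfsg.Agent.Omega.FFBr Cfsg.Agent.Lib.SL2Mat
open Cfsg.Agent.Omega.NatPair (ap ap_zero' ap_one' ap_mul ap_one ap_add ap_inv_ap ap_ap_inv ap_inj ext2)

universe u

variable {G : Type u} [Group G] [Finite G] {V Q T R M0 D E M : Subgroup G} {h : G} {Rel : Set (Subgroup G)}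

variable {F : Type} [Field F] [CharP F 2] {k : ℕ}

theorem one_of (hF : ∀ α : F, α = 0 ∨ α = 1) {x : Fin 2 → F} (h1 : x 1 = 0) (h0 : x ≠ 0) : x = ![1, 0] := by
  apply ext2
  · rcases hF (x 0) with h2 | h2
    · exact absurd (ext2 h2 h1) h0
    · rw [h2]; rfl
  · rw [h1]; rfl

theorem w3_e : ap (w3 F) ![1, 0] = ![0, 1] := by
  apply ext2
  · rw [ap_zero']; simp [w3]
  · rw [ap_one']; simp [w3]

theorem w3_e2 : ap (w3 F ^ 2) ![1, 0] = ![1, 1] := by
  rw [sq, ap_mul, w3_e]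
  apply ext2
  · rw [ap_zero']; simp [w3]
  · rw [ap_one']; simp [w3]

theorem w3_ne : w3 F ≠ 1 := by
  intro h0
  have h1 := congrArg (fun X => ent X 0 0) h0
  simp [w3] at h1

theorem z2v {α β : Type*} (f : α → β → F) : f + f = 0 := by
  funext i x
  exact c2 _

namespace Stp

variable (s : Stp V Q T R M0 D E M h Rel)

include s in
/-- if the members of `V` are in `M` and in `D` or `hD` then `T` is trivial on `V / D` -/
theorem T_triv (h6 : ∀ w ∈ V, w ∈ D ∨ (w ∈ M ∧ w * h⁻¹ ∈ D)) :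
    ∀ t ∈ T, ∀ w ∈ V, t * w * t⁻¹ * w⁻¹ ∈ D := by
  intro t ht w hw
  rcases h6 w hw with h8 | ⟨hM, h8⟩
  · rw [s.conjD (s.TR ht) h8, mul_inv_cancel]
    exact one_mem _
  · have h9 := s.comm_eq (s.TR ht) s.hM hM h8
    rw [← h9]
    exact s.hT t ht

include s in
theorem not_DE (h7 : ∀ t ∈ T, ∀ w ∈ V, t * w * t⁻¹ * w⁻¹ ∈ D) : ¬ D ≤ E := by
  intro hDE
  obtain ⟨a1, ha1, b1, hb1, w, hw, h8⟩ := s.na hDE
  apply h8
  exact h7 _ (mul_mem (mul_mem (mul_mem ha1 hb1) (inv_mem ha1)) (inv_mem hb1)) w hw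

end Stp

namespace NatG

variable (y : NatG F R T M D (o2 R) Rel k) (s : Stp V Q T R M0 D E M h Rel)
  (hex : ∀ B ∈ Rel, ∀ u ∈ M, (∀ b ∈ B, b * u * b⁻¹ * u⁻¹ ∈ D) → ∀ b ∈ B, b * u = u * b)

include s

omit [CharP F 2] in
/-- the kernel acts trivially -/
theorem act_one {g : G} {B : Fin k → Matrix.SpecialLinearGroup (Fin 2) F} (hg : g ∈ s.KR) (h1 : ActG y.e M g B) :
    B = 1 := by
  funext l
  apply ap_inj
  intro x
  obtain ⟨v, hv, he⟩ := y.surj (Pi.single l x)
  have h2 := (y.e_eq s (s.conjM hg.1 hv) hv).2 (hg.2 v hv)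
  have h3 := h1 v hv l
  rw [h2, he, Pi.single_eq_same] at h3
  rw [Pi.one_apply, ap_one, ← h3]

omit [CharP F 2] in
theorem mem_KR_of {g : G} (hg : g ∈ R) (h1 : ActG y.e M g 1) : g ∈ s.KR := by
  refine ⟨hg, fun v hv => ?_⟩
  rw [← y.e_eq s (s.conjM hg hv) hv]
  funext l
  rw [h1 v hv l, Pi.one_apply, ap_one]

include y hex in
/-- **There are no two blocks, if `|F| = 2`.** -/
theorem false_of_two {i j : Fin k} (hij : j ≠ i) (hall : ∀ l, l = i ∨ l = j) (hF : ∀ α : F, α = 0 ∨ α = 1) :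
    False := by
  have hh : ∀ l, y.e h l = ![1, 0] := fun l => one_of hF (y.h_line s l) (y.h_ne s l)
  have hsi : ∀ {l : Fin k} {u : G}, Sing y.e M l u → y.e u l = ![1, 0] := by
    intro l u hu
    exact one_of hF hu.line fun h0 => hu.ne (by rw [h0]; rfl)
  have hone : (![1, 0] : Fin 2 → F) + ![1, 0] = 0 := by
    apply ext2
    · exact c2 1
    · exact c2 0
  -- the single vectors are not in `V`
  have h1 : ∀ l u, Sing y.e M l u → u ∉ V := by
    intro l u hu huV
    refine y.not_three s fun i' => ?_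
    by_cases h0 : i' = l
    · -- the vector `h u` of the other block
      obtain ⟨l', hl'⟩ : ∃ l', l' ≠ l := by
        by_cases h0 : l = i
        · exact ⟨j, by rw [h0]; exact hij⟩
        · exact ⟨i, Ne.symm h0⟩
      have hall' : ∀ m, m = l ∨ m = l' := by
        intro m
        rcases hall l with e1 | e1 <;> rcases hall l' with e2 | e2 <;> rcases hall m with e3 | e3
        all_goals first
          | exact absurd (e2.trans e1.symm) hl'
          | exact Or.inl (e3.trans e1.symm)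
          | exact Or.inr (e3.trans e2.symm)
      have he : ∀ m, y.e (h * u) m = y.e h m + y.e u m := by
        intro m
        rw [y.mul h s.hM u hu.mem]
        rfl
      refine ⟨l', by rw [h0]; exact hl', h * u, mul_mem s.hV huV, mul_mem s.hM hu.mem, ?_, ?_, ?_⟩
      · intro m hm
        have hm' := (hall' m).resolve_right hm
        rw [he, hm', hh, hsi hu, hone]
      · rw [he, hh, hu.off l' hl', add_zero]
        rfl
      · rw [he, hh, hu.off l' hl', add_zero]
        exact one_ne_zero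
    · exact ⟨l, Ne.symm h0, u, huV, hu⟩
  obtain ⟨u, hu, -⟩ := y.exists_sing i (one_ne_zero (α := F))
  have huV := h1 i u hu
  have hT : ∀ t ∈ T, ∀ w ∈ V, t * w * t⁻¹ * w⁻¹ ∈ D := by
    apply s.T_triv
    intro v hv
    obtain ⟨q, hq, -, hvM, h3, hvl⟩ := y.V_line s hex hu.mem hu.all huV v hv
    obtain ⟨σ, h4⟩ := y.perm q (s.TR (s.QT hq))
    have h5 : ∀ l, l ≠ σ i → y.e (q * u * q⁻¹) l = 0 := by
      intro l hl
      obtain ⟨l', rfl⟩ := σ.surjective l
      exact (h4 u hu.mem l').2 (hu.off l' fun h0 => hl (by rw [h0]))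
    have h6 : y.e (q * u * q⁻¹) (σ i) = ![1, 0] := by
      refine one_of hF (y.line_T s (s.QT hq) hu.mem hu.all _) fun h0 => ?_
      have h7 := (h4 u hu.mem i).1 h0
      apply hu.ne
      rw [h7]
      rfl
    rcases hall (σ i) with hσ | hσ
    · left
      rw [← y.ker v hvM]
      rw [hσ] at h5 h6
      have h7 : y.e (q * u * q⁻¹) = y.e u := by
        funext l
        by_cases hl : l = i
        · subst hl
          rw [h6, hsi hu]
        · rw [h5 l hl, hu.off l hl]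
      rw [h3] at h7
      exact add_eq_right.1 h7
    · right
      refine ⟨hvM, ?_⟩
      rw [← y.e_eq s hvM s.hM]
      rw [hσ] at h5 h6
      funext l
      have h7 := congrFun h3 l
      rw [Pi.add_apply] at h7
      rcases hall l with hl | hl
      · rw [hl] at h7 ⊢
        rw [h5 i (Ne.symm hij), hsi hu] at h7
        rw [hh]
        have h8 : y.e v i = y.e v i + ![1, 0] + ![1, 0] := by rw [add_assoc, hone, add_zero]
        rw [h8, ← h7, zero_add]
      · rw [hl] at h7 ⊢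
        rw [h6, hu.off j hij, add_zero] at h7
        rw [hh, ← h7]
  apply s.not_DE hT
  intro d hd
  obtain ⟨q, hq, hqu, -, h3, -⟩ := y.V_line s hex hu.mem hu.all huV d (s.DV hd)
  have hqR := s.TR (s.QT hq)
  rw [(y.ker d (s.DM hd)).2 hd, zero_add] at h3
  have hqd : q * u * q⁻¹ * u⁻¹ = d := by rw [hqu, mul_inv_cancel_right]
  obtain ⟨σ, h4⟩ := y.perm q hqR
  have hσi : σ i = i := by
    by_contra hcon
    have h5 : y.e (q * u * q⁻¹) (σ i) = 0 := by rw [h3]; exact hu.off _ hcon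
    have h6 := (h4 u hu.mem i).1 h5
    apply hu.ne
    rw [h6]
    rfl
  have hσj : σ j = j := by
    refine (hall (σ j)).resolve_left fun h0 => hij (σ.injective (h0.trans hσi.symm))
  obtain ⟨x, hx, h5⟩ := y.lift (um i (w3 F))
  have hyR : q * x * q⁻¹ ∈ R := mul_mem (mul_mem hqR hx) (inv_mem hqR)
  obtain ⟨B, hB⟩ := y.norm q hqR x hx _ h5
  have hBj : B j = 1 := by
    apply ap_inj
    intro z
    obtain ⟨v, hv, he⟩ := y.surj (Pi.single j z)
    have h7 := hB v hv j
    rw [he, Pi.single_eq_same] at h7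
    rw [← h7, ap_one]
    have hv' : q⁻¹ * v * q ∈ M := s.conjM' hqR hv
    have h8 : y.e (q⁻¹ * v * q) i = 0 := by
      rw [← h4 _ hv' i, hσi]
      have e1 : q * (q⁻¹ * v * q) * q⁻¹ = v := by group
      rw [e1, he, Pi.single_eq_of_ne (Ne.symm hij)]
    have h9 : y.e (x * (q⁻¹ * v * q) * x⁻¹) = y.e (q⁻¹ * v * q) := by
      funext l
      rw [h5 _ hv' l]
      by_cases hl : l = i
      · subst hl
        rw [h8, ap0]
      · rw [um_ne hl, ap_one]
    have h10 := (y.e_eq s (s.conjM hx hv') hv').1 h9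
    have h11 := s.conjD hqR h10
    have h12 : (q * x * q⁻¹ * v * (q * x * q⁻¹)⁻¹) * v⁻¹ ∈ D := by
      have e2 : (q * x * q⁻¹ * v * (q * x * q⁻¹)⁻¹) * v⁻¹ =
          q * (x * (q⁻¹ * v * q) * x⁻¹ * (q⁻¹ * v * q)⁻¹) * q⁻¹ := by group
      rw [e2, h11]
      exact h10
    rw [(y.e_eq s (s.conjM hyR hv) hv).2 h12, he, Pi.single_eq_same]
  have hBu : B = um i (B i) := by
    funext l
    by_cases hl : l = i
    · subst hl
      rw [um_same]
    · rw [um_ne hl, (hall l).resolve_left hl, hBj]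
  have hx3 : x ^ 3 ∈ s.KR := by
    apply y.mem_KR_of s (pow_mem hx 3)
    have h6 := h5.pow s.RM hx 3
    rw [um_pow, w3_cube, um_one] at h6
    exact h6
  have hB3 : (B i) ^ 3 = 1 := by
    have h6 := hB.pow s.RM hyR 3
    have h7 : (q * x * q⁻¹) ^ 3 ∈ s.KR := by
      rw [conj_pow]
      exact s.KR_conj hx3 hqR
    have h8 := y.act_one s h7 h6
    have h9 := congrFun h8 i
    exact h9
  have hB1 : B i ≠ 1 := by
    intro h0
    rw [h0, um_one] at hBu
    rw [hBu] at hB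
    have h6 := y.mem_KR_of s hyR hB
    have h7 := s.KR_conj h6 (inv_mem hqR)
    have e1 : q⁻¹ * (q * x * q⁻¹) * q⁻¹⁻¹ = x := by group
    rw [e1] at h7
    have h8 := congrFun (y.act_one s h7 h5) i
    rw [um_same] at h8
    exact w3_ne h8
  have hx2 := h5.pow s.RM hx 2
  rw [um_pow] at hx2
  have h13 : (Sim D M (q * x * q⁻¹) x ∧ Sim D M ((q * x * q⁻¹) ^ 2) (x ^ 2)) ∨
      (Sim D M (q * x * q⁻¹) (x ^ 2) ∧ Sim D M ((q * x * q⁻¹) ^ 2) x) := by
    rcases order3 hF hB1 hB3 with h6 | h6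
    · left
      rw [h6] at hBu
      rw [hBu] at hB
      have hy2 := hB.pow s.RM hyR 2
      rw [um_pow] at hy2
      exact ⟨y.sim_of s hyR hx hB h5, y.sim_of s (pow_mem hyR 2) (pow_mem hx 2) hy2 hx2⟩
    · right
      rw [h6] at hBu
      rw [hBu] at hB
      have hy2 := hB.pow s.RM hyR 2
      rw [um_pow, ← pow_mul, show 2 * 2 = 3 + 1 by norm_num, pow_add, w3_cube, one_mul, pow_one] at hy2
      exact ⟨y.sim_of s hyR (pow_mem hx 2) hB hx2, y.sim_of s (pow_mem hyR 2) hx hy2 h5⟩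
  have h14 := s.x3 hx hqR (s.qh hq) h13
  have hA' : x * h * x⁻¹ ∈ M := s.conjM hx s.hM
  have hB' : x ^ 2 * h * (x ^ 2)⁻¹ ∈ M := s.conjM (pow_mem hx 2) s.hM
  have h15 : y.e ((x * h * x⁻¹) * (x ^ 2 * h * (x ^ 2)⁻¹)) = y.e u := by
    rw [y.mul _ hA' _ hB']
    funext l
    rw [Pi.add_apply, h5 h s.hM l, hx2 h s.hM l]
    by_cases hl : l = i
    · subst hl
      rw [um_same, um_same, hh, hsi hu, w3_e, w3_e2]
      apply ext2
      · change (0 : F) + 1 = 1
        rw [zero_add]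
      · exact c2 1
    · rw [um_ne hl, um_ne hl, hu.off l hl, ap_one, hh, hone]
  have h16 := (y.e_eq s (mul_mem hA' hB') hu.mem).1 h15
  have h17 := s.comm_eq hqR hu.mem (mul_mem hA' hB') h16
  rw [hqd] at h17
  rw [h17]
  exact h14

include y hex in
/-- **There is only one block.** -/
theorem one_block (hk : 0 < k) : k = 1 := by
  by_contra hne
  have hk2 : 1 < k := by omega
  let i : Fin k := ⟨0, hk⟩
  let j : Fin k := ⟨1, hk2⟩
  have hij : j ≠ i := by simp [i, j]
  by_cases h1 : ∃ α : F, α ≠ 0 ∧ α ≠ 1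
  · exact y.false_of_big s hex hij (Or.inr h1)
  push Not at h1
  have hF : ∀ α : F, α = 0 ∨ α = 1 := fun α => by
    by_cases h0 : α = 0
    · exact Or.inl h0
    · exact Or.inr (h1 α h0)
  by_cases h2 : ∃ l, l ≠ i ∧ l ≠ j
  · exact y.false_of_big s hex hij (Or.inl h2)
  push Not at h2
  refine y.false_of_two s hex hij (fun l => ?_) hF
  by_cases h0 : l = i
  · exact Or.inl h0
  · exact Or.inr (h2 l h0)

end NatG

end Cfsg.Agent.Omega.NO3S.SN2.FF
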