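import Cfsg.Agent.Omega.NO3S.SN2.FF.NatD

/-!
# The FF step: one natural block
-/

set_option autoImplicit false
set_option linter.unusedSectionVars false

namespace Cfsg.Agent.Omega.NO3S.SN2.FF

open Subgroup Cfsg Cfsg.Agent.ZN Cfsg.Agent.Omega.FFBr Cfsg.Agent.Lib.SL2Mat
open Cfsg.Agent.Omega.NatPair (ap ap_zero' ap_one' ap_mul ap_one ap_add ap_inv_ap ap_ap_inv ap_inj ext2 ap_smul)

universe u

/-- `g` acts as `A` on the coordinates of `M` -/
def ActO {G : Type u} [Group G] {F : Type} [Field F] (e : G → Fin 2 → F) (M : Subgroup G) (g : G)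
    (A : Matrix.SpecialLinearGroup (Fin 2) F) : Prop :=
  ∀ v ∈ M, e (g * v * g⁻¹) = ap A (e v)

/-- `M / D` is a natural `SL₂(F)`-module. -/
structure One {G : Type u} [Group G] (F : Type) [Field F] (R T M D O : Subgroup G) (Rel : Set (Subgroup G)) where
  e : G → Fin 2 → F
  mul : ∀ v ∈ M, ∀ w ∈ M, e (v * w) = e v + e w
  surj : ∀ x, ∃ v ∈ M, e v = x
  ker : ∀ v ∈ M, e v = 0 ↔ v ∈ D
  lift : ∀ A, ∃ g ∈ R, ActO e M g A
  norm : ∀ g ∈ R, ∀ x ∈ R, ∀ A, ActO e M x A → ∃ B, ActO e M (g * x * g⁻¹) B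
  line : ∀ t ∈ T, ∀ v ∈ M, e (t * v * t⁻¹) 1 = 0 ↔ e v 1 = 0
  unip : ∀ c : F, ∃ t ∈ T, ActO e M t (up c)
  gen : ∀ K : Subgroup G, T ≤ K → (∀ g ∈ R, ∀ A, ActO e M g A → g ∈ K) → R ≤ K
  off : ∀ B ∈ Rel, ¬ B ≤ O → (∀ b ∈ B, ∃ c : F, ActO e M b (up c)) ∧ ∀ c : F, ∃ b ∈ B, ActO e M b (up c)

variable {G : Type u} [Group G] [Finite G] {V Q T R M0 D E M : Subgroup G} {h : G} {Rel : Set (Subgroup G)}

variable {F : Type} [Field F] [CharP F 2]

/-- `NatG` with one block -/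
theorem NatG.one (y : NatG F R T M D (o2 R) Rel 1) (s : Stp V Q T R M0 D E M h Rel) :
    Nonempty (One F R T M D (o2 R) Rel) := by
  have h1 : ∀ (g : G) (A : Fin 1 → Matrix.SpecialLinearGroup (Fin 2) F),
      ActG y.e M g A → ActO (fun v => y.e v 0) M g (A 0) := fun g A hA v hv => hA v hv 0
  have h2 : ∀ (g : G) (A : Matrix.SpecialLinearGroup (Fin 2) F),
      ActO (fun v => y.e v 0) M g A → ActG y.e M g fun _ => A := by
    intro g A hA v hv i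
    rw [Subsingleton.elim i 0]
    exact hA v hv
  refine ⟨{
    e := fun v => y.e v 0
    mul := ?_
    surj := ?_
    ker := ?_
    lift := ?_
    norm := ?_
    line := ?_
    unip := ?_
    gen := ?_
    off := ?_ }⟩
  · intro v hv w hw
    rw [y.mul v hv w hw]
    rfl
  · intro x
    obtain ⟨v, hv, he⟩ := y.surj fun _ => x
    exact ⟨v, hv, by rw [he]⟩
  · intro v hv
    rw [← y.ker v hv]
    constructor
    · intro h3
      funext i
      rw [Subsingleton.elim i 0]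
      exact h3
    · intro h3
      rw [h3]
      rfl
  · intro A
    obtain ⟨g, hg, h3⟩ := y.lift fun _ => A
    exact ⟨g, hg, h1 g _ h3⟩
  · intro g hg x hx A hA
    obtain ⟨B, hB⟩ := y.norm g hg x hx _ (h2 x A hA)
    exact ⟨B 0, h1 _ _ hB⟩
  · intro t ht v hv
    obtain ⟨σ, h3⟩ := y.line t ht
    have h4 := h3 v hv 0
    rwa [Subsingleton.elim (σ 0) 0] at h4
  · intro c
    obtain ⟨t, ht, h3⟩ := y.unip fun _ => c
    exact ⟨t, ht, h1 _ _ h3⟩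
  · intro K hT hK
    exact y.gen K hT fun g hg A hA => hK g hg (A 0) (h1 g A hA)
  · intro B hB hBo
    obtain ⟨I, h3, h4⟩ := y.off B hB hBo
    have h0 : (0 : Fin 1) ∈ I := by
      by_contra hcon
      apply hBo
      intro b hb
      obtain ⟨c, hc, h5⟩ := h3 b hb
      have hbT := s.QT (s.relQ B hB hb)
      refine s.kerT hbT (y.mem_KR_of s (s.TR hbT) ?_)
      intro v hv i
      rw [h5 v hv i]
      beta_reduce
      rw [Subsingleton.elim i 0, hc 0 hcon, up_zero, Pi.one_apply]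
    have hI : ∀ i : Fin 1, i ∈ I := fun i => by rw [Subsingleton.elim i 0]; exact h0
    refine ⟨fun b hb => ?_, fun c => ?_⟩
    · obtain ⟨c, -, h5⟩ := h3 b hb
      exact ⟨c 0, h1 _ _ h5⟩
    · obtain ⟨b, hb, h5⟩ := h4 (fun _ => c) fun i hi => absurd (hI i) hi
      exact ⟨b, hb, h1 _ _ h5⟩

theorem mid_eq {K : Type*} [Group K] {A X Y Z : K} (h : A = X * Y * Z) : Y = X⁻¹ * A * Z⁻¹ := by
  rw [h]; group

theorem ActO.one {e : G → Fin 2 → F} : ActO e M 1 1 := by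
  intro v _
  rw [ap_one, one_mul, inv_one, mul_one]

theorem ActO.mul {e : G → Fin 2 → F} (hRM : R ≤ normalizer (M : Set G)) {g g' : G}
    {A A' : Matrix.SpecialLinearGroup (Fin 2) F}
    (h : ActO e M g A) (h' : ActO e M g' A') (hg' : g' ∈ R) : ActO e M (g * g') (A * A') := by
  intro v hv
  have h1 := h (g' * v * g'⁻¹) ((mem_normalizer_iff.1 (hRM hg') v).1 hv)
  have e1 : g * g' * v * (g * g')⁻¹ = g * (g' * v * g'⁻¹) * g⁻¹ := by group
  rw [e1, h1, h' v hv, ap_mul]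

theorem ActO.inv {e : G → Fin 2 → F} (hRM : R ≤ normalizer (M : Set G)) {g : G}
    {A : Matrix.SpecialLinearGroup (Fin 2) F} (h : ActO e M g A) (hg : g ∈ R) : ActO e M g⁻¹ A⁻¹ := by
  intro v hv
  have h1 := h (g⁻¹ * v * g⁻¹⁻¹) ((mem_normalizer_iff.1 (hRM (inv_mem hg)) v).1 hv)
  have e1 : g * (g⁻¹ * v * g⁻¹⁻¹) * g⁻¹ = v := by group
  rw [e1] at h1
  rw [h1, ap_inv_ap]

namespace One

variable (y : One F R T M D (o2 R) Rel) (s : Stp V Q T R M0 D E M h Rel)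
  (hex : ∀ B ∈ Rel, ∀ u ∈ M, (∀ b ∈ B, b * u * b⁻¹ * u⁻¹ ∈ D) → ∀ b ∈ B, b * u = u * b)

include s

/-- `e v = e w` iff `v w⁻¹ ∈ D` -/
theorem e_eq {v w : G} (hv : v ∈ M) (hw : w ∈ M) : y.e v = y.e w ↔ v * w⁻¹ ∈ D := by
  have h1 : y.e (v * w⁻¹) + y.e w = y.e v := by
    rw [← y.mul _ (mul_mem hv (inv_mem hw)) w hw, inv_mul_cancel_right]
  rw [← y.ker _ (mul_mem hv (inv_mem hw))]
  constructor
  · intro h2
    rw [h2] at h1
    exact add_eq_right.1 h1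
  · intro h2
    rw [h2, zero_add] at h1
    exact h1.symm

theorem sim_of {g g' : G} {A : Matrix.SpecialLinearGroup (Fin 2) F} (hg : g ∈ R) (hg' : g' ∈ R)
    (h13 : ActO y.e M g A) (h14 : ActO y.e M g' A) : Sim D M g g' := by
  intro v hv
  rw [← y.e_eq s (s.conjM hg hv) (s.conjM hg' hv), h13 v hv, h14 v hv]

/-- the kernel acts trivially -/
theorem act_one {g : G} {B : Matrix.SpecialLinearGroup (Fin 2) F} (hg : g ∈ s.KR) (h1 : ActO y.e M g B) :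
    B = 1 := by
  apply ap_inj
  intro x
  obtain ⟨v, hv, he⟩ := y.surj x
  have h2 := (y.e_eq s (s.conjM hg.1 hv) hv).2 (hg.2 v hv)
  have h3 := h1 v hv
  rw [h2, he] at h3
  rw [ap_one, ← h3]

theorem mem_KR_of {g : G} (hg : g ∈ R) (h1 : ActO y.e M g 1) : g ∈ s.KR := by
  refine ⟨hg, fun v hv => ?_⟩
  rw [← y.e_eq s (s.conjM hg hv) hv, h1 v hv, ap_one]

omit s in
/-- the matrices induced by `M0` -/
def WW (y : One F R T M D (o2 R) Rel) (s : Stp V Q T R M0 D E M h Rel) :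
    Subgroup (Matrix.SpecialLinearGroup (Fin 2) F) where
  carrier := {A | ∃ g ∈ R, g ∈ M0 ∧ ActO y.e M g A}
  one_mem' := ⟨1, one_mem _, one_mem _, ActO.one⟩
  mul_mem' := by
    rintro a b ⟨g, hg, hg0, h1⟩ ⟨g', hg', hg0', h2⟩
    exact ⟨g * g', mul_mem hg hg', mul_mem hg0 hg0', h1.mul s.RM h2 hg'⟩
  inv_mem' := by
    rintro a ⟨g, hg, hg0, h1⟩
    exact ⟨g⁻¹, inv_mem hg, inv_mem hg0, h1.inv s.RM hg⟩

theorem mem_WW {g : G} {A : Matrix.SpecialLinearGroup (Fin 2) F} (hg : g ∈ R) (h1 : ActO y.e M g A)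
    (h2 : A ∈ y.WW s) : g ∈ M0 := by
  obtain ⟨g', hg', hg0, h3⟩ := h2
  have h4 := y.sim_of s hg hg' h1 h3
  have h5 : g'⁻¹ * g ∈ s.KR := by
    refine ⟨mul_mem (inv_mem hg') hg, fun w hw => ?_⟩
    have h6 := s.conjD (inv_mem hg') (h4 w hw)
    have e : g'⁻¹ * g * w * (g'⁻¹ * g)⁻¹ * w⁻¹ = g'⁻¹ * ((g * w * g⁻¹) * (g' * w * g'⁻¹)⁻¹) * g'⁻¹⁻¹ := by group
    rw [e, h6]
    exact h4 w hw
  have h6 := mul_mem hg0 (s.KR_le h5)
  have e : g' * (g'⁻¹ * g) = g := by group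
  rwa [e] at h6

/-- the root group is in `M0` -/
theorem up_WW (c : F) : up c ∈ y.WW s := by
  obtain ⟨t, ht, h1⟩ := y.unip c
  exact ⟨t, s.TR ht, s.TM ht, h1⟩

/-- `M0` does not induce an element which does not fix the line -/
theorem not_low {A : Matrix.SpecialLinearGroup (Fin 2) F} (hA : A ∈ y.WW s) : ent A 1 0 = 0 := by
  by_contra hne
  apply s.notM
  have h1 : lo (ent A 1 0) ∈ y.WW s := by
    have h2 := eq_up_lo_up A hne
    have h3 : lo (ent A 1 0) = (up ((ent A 0 0 - 1) / ent A 1 0))⁻¹ * A * (up ((ent A 1 1 - 1) / ent A 1 0))⁻¹ :=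
      mid_eq h2
    rw [h3]
    exact mul_mem (mul_mem (inv_mem (y.up_WW s _)) hA) (inv_mem (y.up_WW s _))
  have hb : -(ent A 1 0)⁻¹ ≠ 0 := neg_ne_zero.2 (inv_ne_zero hne)
  have h2 : wm (-(ent A 1 0)⁻¹) hb ∈ y.WW s := by
    rw [wm_eq]
    have e1 : -(-(ent A 1 0)⁻¹)⁻¹ = ent A 1 0 := by rw [inv_neg, neg_neg, inv_inv]
    rw [e1]
    exact mul_mem (mul_mem h1 (y.up_WW s _)) h1
  have h3 : ∀ c, lo c ∈ y.WW s := by
    intro c
    have h4 := wm_up (-(ent A 1 0)⁻¹) (-(c * (-(ent A 1 0)⁻¹) ^ 2)) hb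
    have e2 : -(-(c * (-(ent A 1 0)⁻¹) ^ 2) / (-(ent A 1 0)⁻¹) ^ 2) = c := by
      rw [neg_div, neg_neg, mul_div_assoc, div_self (pow_ne_zero 2 hb), mul_one]
    rw [e2] at h4
    have h5 := mul_mem (mul_mem h2 (y.up_WW s (-(c * (-(ent A 1 0)⁻¹) ^ 2)))) (inv_mem h2)
    rwa [h4, mul_inv_cancel_right] at h5
  refine y.gen M0 s.TM fun g hg B hB => y.mem_WW s hg hB ?_
  obtain ⟨a, b, c, d, rfl⟩ := exists_up_lo B
  exact mul_mem (mul_mem (mul_mem (y.up_WW s a) (h3 b)) (y.up_WW s c)) (h3 d)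

include hex in
/-- the vectors of the line are centralised by `Rel` -/
theorem cent {v : G} (hv : v ∈ M) (hl : y.e v 1 = 0) : ∀ B ∈ Rel, ∀ b ∈ B, b * v = v * b := by
  intro B hB
  refine hex B hB v hv fun c hc => ?_
  have hcR : c ∈ R := s.TR (s.QT (s.relQ B hB hc))
  by_cases hBo : B ≤ o2 R
  · exact (s.o2_le_KR (hBo hc)).2 v hv
  · obtain ⟨h2, -⟩ := y.off B hB hBo
    obtain ⟨b, h3⟩ := h2 c hc
    rw [← y.e_eq s (s.conjM hcR hv) hv, h3 v hv, ap_up_fix hl]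

theorem eh {t : G} (ht : t ∈ T) : y.e (t * h * t⁻¹) = y.e h :=
  (y.e_eq s (s.conjM (s.TR ht) s.hM) s.hM).2 (s.hT t ht)

/-- `h` is on the line -/
theorem h_line : y.e h 1 = 0 := by
  obtain ⟨t, ht, h1⟩ := y.unip 1
  have h2 := h1 h s.hM
  rw [y.eh s ht] at h2
  have h3 := congrFun h2 0
  rw [ap_up0, one_mul] at h3
  exact left_eq_add.1 h3

theorem h_ne0 : y.e h 0 ≠ 0 := by
  intro h0
  apply s.hD
  rw [← y.ker h s.hM]
  exact ext2 h0 (y.h_line s)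

/-- a member of `V ∩ M` is on the line -/
theorem line_of {v : G} (hv : v ∈ M) (hV : v ∈ V) : y.e v 1 = 0 := by
  obtain ⟨B, hB, hBo⟩ := s.ex
  obtain ⟨b, hb, h1⟩ := (y.off B hB hBo).2 1
  have h2 := h1 v hv
  rw [s.qv (s.relQ B hB hb) hV] at h2
  have h3 := congrFun h2 0
  rw [ap_up0, one_mul] at h3
  exact left_eq_add.1 h3

end One

end Cfsg.Agent.Omega.NO3S.SN2.FF
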