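import Cfsg.Agent.Omega.NO3S.SN2.FF.OneA

/-!
# The FF step: one natural block, `V ∩ M` is the line
-/

set_option autoImplicit false
set_option linter.unusedSectionVars false

namespace Cfsg.Agent.Omega.NO3S.SN2.FF

open Subgroup Cfsg Cfsg.Agent.ZN Cfsg.Agent.Omega.FFBr Cfsg.Agent.Lib.SL2Mat
open Cfsg.Agent.Omega.NatPair (ap ap_zero' ap_one' ap_mul ap_one ap_add ap_inv_ap ap_ap_inv ap_inj ext2 ap_smul)

universe u

variable {G : Type u} [Group G] [Finite G] {V Q T R M0 D E M : Subgroup G} {h : G} {Rel : Set (Subgroup G)}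

variable {F : Type} [Field F] [CharP F 2]

namespace One

variable (y : One F R T M D (o2 R) Rel) (s : Stp V Q T R M0 D E M h Rel)
  (hex : ∀ B ∈ Rel, ∀ u ∈ M, (∀ b ∈ B, b * u * b⁻¹ * u⁻¹ ∈ D) → ∀ b ∈ B, b * u = u * b)

include s

/-- `e (g v g⁻¹)` depends only on `e v` -/
theorem congr {g v w : G} (hg : g ∈ R) (hv : v ∈ M) (hw : w ∈ M) (he : y.e v = y.e w) :
    y.e (g * v * g⁻¹) = y.e (g * w * g⁻¹) := by
  rw [y.e_eq s (s.conjM hg hv) (s.conjM hg hw)]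
  have h1 := (y.e_eq s hv hw).1 he
  have e1 : g * v * g⁻¹ * (g * w * g⁻¹)⁻¹ = g * (v * w⁻¹) * g⁻¹ := by group
  rw [e1, s.conjD hg h1]
  exact h1

/-- vectors of the line are multiples of `e h` -/
theorem mult {v : G} (hl : y.e v 1 = 0) : y.e v = (y.e v 0 / y.e h 0) • y.e h := by
  apply ext2
  · rw [Pi.smul_apply, smul_eq_mul, div_mul_cancel₀ _ (y.h_ne0 s)]
  · rw [Pi.smul_apply, y.h_line s, smul_zero, hl]

theorem exists_mult (c : F) : ∃ v ∈ M, y.e v = c • y.e h := y.surj _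

theorem smul_inj {a b : F} (h1 : a • y.e h = b • y.e h) : a = b := by
  have h2 := congrFun h1 0
  rw [Pi.smul_apply, Pi.smul_apply, smul_eq_mul, smul_eq_mul] at h2
  exact mul_right_cancel₀ (y.h_ne0 s) h2

theorem ap_dg {c : F} (hc : c ≠ 0) (a : F) : ap (dg c hc) (a • y.e h) = (c * a) • y.e h := by
  have h1 := y.h_line s
  apply ext2
  · rw [ap_zero']
    simp only [dg_00, dg_01, Pi.smul_apply, smul_eq_mul, h1]
    ring
  · rw [ap_one']
    simp only [dg_10, dg_11, Pi.smul_apply, smul_eq_mul, h1]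
    ring

/-- a matrix which maps `e h` to a multiple -/
theorem ent_of {B : Matrix.SpecialLinearGroup (Fin 2) F} {c : F} (h1 : ap B (y.e h) = c • y.e h) :
    ent B 0 0 = c ∧ ent B 1 0 = 0 := by
  have h2 := congrFun h1 0
  have h3 := congrFun h1 1
  rw [ap_zero', y.h_line s, Pi.smul_apply, smul_eq_mul, mul_zero, add_zero] at h2
  rw [ap_one', y.h_line s, Pi.smul_apply, smul_eq_mul, mul_zero, add_zero, y.h_line s, mul_zero] at h3
  exact ⟨mul_right_cancel₀ (y.h_ne0 s) h2, (mul_eq_zero.1 h3).resolve_right (y.h_ne0 s)⟩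

omit s in
/-- `t` maps `λ e_h` to `μ e_h` -/
def Rl (y : One F R T M D (o2 R) Rel) (h : G) (t : G) (c c' : F) : Prop :=
  ∀ v ∈ M, y.e v = c • y.e h → y.e (t * v * t⁻¹) = c' • y.e h

theorem line_T {t v : G} (ht : t ∈ T) (hv : v ∈ M) (hl : y.e v 1 = 0) : y.e (t * v * t⁻¹) 1 = 0 :=
  (y.line t ht v hv).2 hl

theorem Rl_exists {t : G} (ht : t ∈ T) {c : F} (hc : c ≠ 0) : ∃ c', c' ≠ 0 ∧ y.Rl h t c c' := by
  obtain ⟨v, hv, he⟩ := y.exists_mult s c
  have hl : y.e v 1 = 0 := by rw [he, Pi.smul_apply, y.h_line s, smul_zero]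
  have h1 := y.mult s (y.line_T s ht hv hl)
  refine ⟨y.e (t * v * t⁻¹) 0 / y.e h 0, ?_, fun w hw hew => ?_⟩
  rotate_left
  · rw [← h1]
    exact y.congr s (s.TR ht) hw hv (hew.trans he.symm)
  · intro h0
    rw [h0, zero_smul, y.ker _ (s.conjM (s.TR ht) hv)] at h1
    have h2 := s.conjD (inv_mem (s.TR ht)) h1
    have e1 : t⁻¹ * (t * v * t⁻¹) * t⁻¹⁻¹ = v := by group
    rw [e1] at h2
    rw [← h2, ← y.ker v hv, he] at h1
    have h3 := congrFun h1 0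
    rw [Pi.smul_apply, smul_eq_mul] at h3
    rcases mul_eq_zero.1 h3 with h4 | h4
    · exact hc h4
    · exact y.h_ne0 s h4

theorem Rl_one {t : G} (ht : t ∈ T) : y.Rl h t 1 1 := by
  intro v hv he
  rw [one_smul] at he ⊢
  rw [y.congr s (s.TR ht) hv s.hM he, y.eh s ht]

theorem Rl_mul {t : G} (ht : t ∈ T) {c c' d d' : F} (hc : c ≠ 0) (h1 : y.Rl h t c c') (h2 : y.Rl h t d d') :
    y.Rl h t (c * d) (c' * d') := by
  intro v hv he
  obtain ⟨x, hx, h3⟩ := y.lift (dg c hc)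
  have htR := s.TR ht
  obtain ⟨B, hB⟩ := y.norm t htR x hx _ h3
  -- the value of `B` on `e h`
  have h4 : y.e (x * h * x⁻¹) = c • y.e h := by
    have h5 := y.ap_dg s hc 1
    rw [one_smul, mul_one] at h5
    rw [h3 h s.hM, h5]
  have h5 : ap B (y.e h) = c' • y.e h := by
    have h6 := hB (t * h * t⁻¹) (s.conjM htR s.hM)
    have e1 : t * x * t⁻¹ * (t * h * t⁻¹) * (t * x * t⁻¹)⁻¹ = t * (x * h * x⁻¹) * t⁻¹ := by group
    rw [e1, y.eh s ht, h1 _ (s.conjM hx s.hM) h4] at h6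
    exact h6.symm
  obtain ⟨w, hw, hew⟩ := y.exists_mult s d
  have h7 : y.e (x * w * x⁻¹) = y.e v := by rw [h3 w hw, hew, y.ap_dg s hc, he]
  rw [y.congr s htR hv (s.conjM hx hw) h7.symm]
  have h8 := hB (t * w * t⁻¹) (s.conjM htR hw)
  have e1 : t * x * t⁻¹ * (t * w * t⁻¹) * (t * x * t⁻¹)⁻¹ = t * (x * w * x⁻¹) * t⁻¹ := by group
  rw [e1, h2 w hw hew, ap_smul, h5, smul_smul] at h8
  rw [h8, mul_comm]

theorem Rl_pow {t : G} (ht : t ∈ T) {c c' : F} (hc : c ≠ 0) (h1 : y.Rl h t c c') (n : ℕ) :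
    y.Rl h t (c ^ n) (c' ^ n) := by
  induction n with
  | zero => rw [pow_zero, pow_zero]; exact y.Rl_one s ht
  | succ n ih => rw [pow_succ', pow_succ']; exact y.Rl_mul s ht hc h1 ih

variable [Finite F]

/-- `T` is abelian on the line -/
theorem ab {a b v : G} (ha : a ∈ T) (hb : b ∈ T) (hv : v ∈ M) (hl : y.e v 1 = 0) :
    y.e (a * b * v * (a * b)⁻¹) = y.e (b * a * v * (b * a)⁻¹) := by
  obtain ⟨ζ, hζ⟩ := IsCyclic.exists_generator (α := Fˣ)
  have hz : ∀ c : F, c ≠ 0 → ∃ n : ℕ, (ζ : F) ^ n = c := by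
    intro c hc
    obtain ⟨n, hn⟩ := (mem_powers_iff_mem_zpowers (G := Fˣ)).2 (hζ (Units.mk0 c hc))
    refine ⟨n, ?_⟩
    have h1 := congrArg Units.val hn
    simpa using h1
  have hζ0 : (ζ : F) ≠ 0 := ζ.ne_zero
  have hP : ∀ t ∈ T, ∃ m : ℕ, ∀ n : ℕ, y.Rl h t ((ζ : F) ^ n) (((ζ : F) ^ n) ^ m) := by
    intro t ht
    obtain ⟨c', hc', h1⟩ := y.Rl_exists s ht hζ0
    obtain ⟨m, hm⟩ := hz c' hc'
    refine ⟨m, fun n => ?_⟩
    have h2 := y.Rl_pow s ht hζ0 h1 n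
    rwa [← hm, ← pow_mul, mul_comm m n, pow_mul] at h2
  have e1 : a * b * v * (a * b)⁻¹ = a * (b * v * b⁻¹) * a⁻¹ := by group
  have e2 : b * a * v * (b * a)⁻¹ = b * (a * v * a⁻¹) * b⁻¹ := by group
  rw [e1, e2]
  have haR := s.TR ha
  have hbR := s.TR hb
  by_cases h0 : y.e v 0 = 0
  · have hvD : v ∈ D := (y.ker v hv).1 (ext2 h0 hl)
    rw [s.conjD haR hvD, s.conjD hbR hvD, s.conjD haR hvD]
  · obtain ⟨n, hn⟩ := hz (y.e v 0 / y.e h 0) (div_ne_zero h0 (y.h_ne0 s))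
    have hev := y.mult s hl
    rw [← hn] at hev
    obtain ⟨p, hp⟩ := hP a ha
    obtain ⟨q, hq⟩ := hP b hb
    have h1 := hp n v hv hev
    have h2 := hq n v hv hev
    have h3 := hp (n * q) _ (s.conjM hbR hv) (by rw [h2, pow_mul])
    have h4 := hq (n * p) _ (s.conjM haR hv) (by rw [h1, pow_mul])
    rw [h3, h4, ← pow_mul, ← pow_mul, mul_assoc, mul_assoc, mul_comm q p]

include hex in
/-- **The line is in `V`.** -/
theorem mem_V {v : G} (hv : v ∈ M) (hl : y.e v 1 = 0) : v ∈ V := by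
  by_contra hvV
  rename' v => w, hv => hw, hvV => hwV
  have key : ∀ v ∈ V, v ∈ M ∧ ∃ q ∈ Q, q * w * q⁻¹ = v * w := by
    intro v hv
    obtain ⟨q, hq, h1⟩ := ((s.lemY w hw (y.cent s hex hw hl)).resolve_left hwV) v hv
    have h2 : v = q * w * q⁻¹ * w⁻¹ := by rw [h1, mul_inv_cancel_right]
    refine ⟨?_, q, hq, h1⟩
    rw [h2]
    exact mul_mem (s.conjM (s.TR (s.QT hq)) hw) (inv_mem hw)
  have hDE : D ≤ E := by
    intro d hd
    obtain ⟨-, q, hq, hqw⟩ := key d (s.DV hd)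
    have hqR := s.TR (s.QT hq)
    have hqd : q * w * q⁻¹ * w⁻¹ = d := by rw [hqw, mul_inv_cancel_right]
    have hw0 : y.e w 0 ≠ 0 := by
      intro h0
      exact hwV (s.DV ((y.ker w hw).1 (ext2 h0 hl)))
    have hew := y.mult s hl
    set c := y.e w 0 / y.e h 0 with hc
    have hc0 : c ≠ 0 := div_ne_zero hw0 (y.h_ne0 s)
    obtain ⟨x, hx, h3⟩ := y.lift (dg c hc0)
    have h4 : y.e (x * h * x⁻¹) = y.e w := by
      have h5 := y.ap_dg s hc0 1
      rw [one_smul, mul_one] at h5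
      rw [h3 h s.hM, h5, ← hew]
    have hxM : x * h * x⁻¹ ∈ M := s.conjM hx s.hM
    have hyR : q * x * q⁻¹ ∈ R := mul_mem (mul_mem hqR hx) (inv_mem hqR)
    have e1 : (q * x * q⁻¹) * h * (q * x * q⁻¹)⁻¹ = q * (x * h * x⁻¹) * q⁻¹ := by
      have e2 : q * (x * h * x⁻¹) * q⁻¹ = (q * x * q⁻¹) * (q * h * q⁻¹) * (q * x * q⁻¹)⁻¹ := by group
      rw [e2, s.qh hq]
    obtain ⟨B, hB⟩ := y.norm q hqR x hx _ h3
    have h5 : ap B (y.e h) = c • y.e h := by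
      rw [← hB h s.hM, e1, y.congr s hqR hxM hw h4, hqw, y.mul d (s.DM hd) w hw, (y.ker d (s.DM hd)).2 hd, zero_add]
      exact hew
    obtain ⟨h6, h7⟩ := y.ent_of s h5
    have h8 : B = dg c hc0 * up (ent B 0 1 / c) := by
      have hd' := det_eq B
      rw [h6, h7, mul_zero, sub_zero] at hd'
      refine ext_ent ?_ ?_ ?_ ?_ <;> simp only [ent_mul, dg_00, dg_01, dg_10, dg_11, up_00, up_01, up_10, up_11]
      · rw [h6]; ring
      · rw [mul_div_cancel₀ _ hc0]; ring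
      · rw [h7]; ring
      · rw [eq_inv_of_mul_eq_one_right hd']; ring
    obtain ⟨B0, hB0, hBo⟩ := s.ex
    obtain ⟨b, hb, h9⟩ := (y.off B0 hB0 hBo).2 (ent B 0 1 / c)
    have hbQ := s.relQ B0 hB0 hb
    have hbR := s.TR (s.QT hbQ)
    have h10 := h3.mul s.RM h9 hbR
    rw [← h8] at h10
    have h11 := s.same hyR (mul_mem hx hbR) (y.sim_of s hyR (mul_mem hx hbR) hB h10) s.hM
    have e3 : x * b * h * (x * b)⁻¹ = x * h * x⁻¹ := by
      have e4 : x * b * h * (x * b)⁻¹ = x * (b * h * b⁻¹) * x⁻¹ := by group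
      rw [e4, s.qh hbQ]
    rw [e1, e3] at h11
    have h12 := s.comm_eq hqR hw hxM ((y.e_eq s hxM hw).1 h4)
    rw [hqd] at h12
    rw [h12]
    exact h11
  obtain ⟨a, ha, b, hb, v, hv, h8⟩ := s.na hDE
  apply h8
  have hvM := (key v hv).1
  have hvl := y.line_of s hvM hv
  have hg : a * b * a⁻¹ * b⁻¹ ∈ R :=
    mul_mem (mul_mem (mul_mem (s.TR ha) (s.TR hb)) (inv_mem (s.TR ha))) (inv_mem (s.TR hb))
  rw [← y.e_eq s (s.conjM hg hvM) hvM]
  have hba : b * a ∈ T := mul_mem hb ha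
  have hm : (b * a)⁻¹ * v * (b * a) ∈ M := s.conjM' (s.TR hba) hvM
  have hml : y.e ((b * a)⁻¹ * v * (b * a)) 1 = 0 := by
    rw [← y.line (b * a) hba _ hm]
    have e4 : (b * a) * ((b * a)⁻¹ * v * (b * a)) * (b * a)⁻¹ = v := by group
    rw [e4]
    exact hvl
  have h9 := y.ab s ha hb hm hml
  have e5 : a * b * ((b * a)⁻¹ * v * (b * a)) * (a * b)⁻¹ =
      a * b * a⁻¹ * b⁻¹ * v * (a * b * a⁻¹ * b⁻¹)⁻¹ := by group
  have e6 : b * a * ((b * a)⁻¹ * v * (b * a)) * (b * a)⁻¹ = v := by group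
  rw [e5, e6] at h9
  exact h9

end One

end Cfsg.Agent.Omega.NO3S.SN2.FF
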