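import Cfsg.Agent.Omega.NO3S.SN2.FF.SymB

/-!
# The FF step: the even-subset case, the pairs of `T`
-/

set_option autoImplicit false
set_option linter.unusedSectionVars false

namespace Cfsg.Agent.Omega.NO3S.SN2.FF

open Subgroup Cfsg Cfsg.Agent.ZN Cfsg.Agent.Omega.FFBr
open Cfsg.Agent.MinSimple.VModule

universe u

section ud

variable {k n : ℕ}

/-- the permutation `π` of the block `i` -/
abbrev ud (i : Fin k) (π : Equiv.Perm (Fin n)) : Fin k → Equiv.Perm (Fin n) := Function.update 1 i π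

theorem ud_mul (i : Fin k) (π ρ : Equiv.Perm (Fin n)) : ud i π * ud i ρ = ud i (π * ρ) := (Pi.mulSingle_mul i _ _).symm

theorem ud_pow (i : Fin k) (π : Equiv.Perm (Fin n)) (N : ℕ) : ud i π ^ N = ud i (π ^ N) := (Pi.mulSingle_pow i _ _).symm

theorem ud_inv (i : Fin k) (π : Equiv.Perm (Fin n)) : (ud i π)⁻¹ = ud i π⁻¹ := (Pi.mulSingle_inv i _).symm

theorem ud_one (i : Fin k) : ud i (1 : Equiv.Perm (Fin n)) = 1 := Pi.mulSingle_one i

theorem ud_same (i : Fin k) (π : Equiv.Perm (Fin n)) : ud i π i = π := Function.update_self ..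

theorem ud_ne {i j : Fin k} (h : j ≠ i) (π : Equiv.Perm (Fin n)) : ud i π j = 1 := Function.update_of_ne h ..

end ud

variable {G : Type u} [Group G] [Finite G] {V Q T R M0 D E M : Subgroup G} {h : G} {Rel : Set (Subgroup G)}

namespace SymG

variable {k m : ℕ} (y : SymG R T M D (o2 R) Rel k m) (s : Stp V Q T R M0 D E M h Rel)

include s

theorem e_one : y.e 1 = 0 := (y.ker 1 (one_mem _)).2 (one_mem _)

/-- `e v = e w` iff `v w⁻¹ ∈ D` -/
theorem e_eq {v w : G} (hv : v ∈ M) (hw : w ∈ M) : y.e v = y.e w ↔ v * w⁻¹ ∈ D := by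
  have hw' : w⁻¹ = w := inv_eq_of_mul_eq_one_right (s.Ms w hw)
  rw [hw', ← y.ker _ (mul_mem hv hw), y.mul v hv w hw, z2eq]

/-- a permutation which acts trivially is trivial -/
theorem eq_one (hm : 2 ≤ m) {i : Fin k} {π : Equiv.Perm (Fin (2 ^ m + 1))} {g : G}
    (h1 : ActP y.e M g 1 (ud i π)) (h2 : ∀ v ∈ M, g * v * g⁻¹ * v⁻¹ ∈ D) (hg : g ∈ R) : π = 1 := by
  ext z
  by_contra hcon
  have hz : π z ≠ z := fun h0 => hcon (by rw [h0]; rfl)
  have h5 : 4 ≤ 2 ^ m := by
    calc 4 = 2 ^ 2 := by norm_num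
      _ ≤ 2 ^ m := Nat.pow_le_pow_right (by norm_num) hm
  obtain ⟨w, hw⟩ : ∃ w, w ∉ ({z, π z} : Finset (Fin (2 ^ m + 1))) := by
    by_contra hcon
    push Not at hcon
    have h8 : (Finset.univ : Finset (Fin (2 ^ m + 1))) ⊆ {z, π z} := fun l _ => hcon l
    have h9 := Finset.card_le_card h8
    have h10 : ({z, π z} : Finset (Fin (2 ^ m + 1))).card ≤ 2 := Finset.card_le_two
    rw [Finset.card_univ, Fintype.card_fin] at h9
    omega
  simp only [Finset.mem_insert, Finset.mem_singleton, not_or] at hw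
  obtain ⟨v, hv, he⟩ := y.surj (pv i z w) (pv_even i z w)
  have h3 := h1.pv hv he
  rw [(y.e_eq s (s.conjM hg hv) hv).2 (h2 v hv), he] at h3
  have h4 := congrFun (congrFun h3 i) (π z)
  simp only [Function.update_self, Equiv.Perm.coe_one, id_eq] at h4
  rw [pv_same, pv_left (fun h0 => hw.1 (π.injective h0).symm), if_neg hz, if_neg (Ne.symm hw.2)] at h4
  exact absurd h4 (by decide)

/-- the transposition `(a b)` of the block `i` is induced by `T` -/
def TP (y : SymG R T M D (o2 R) Rel k m) (i : Fin k) (a b : Fin (2 ^ m + 1)) : Prop :=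
  a ≠ b ∧ ∃ t ∈ T, ActP y.e M t 1 (ud i (Equiv.swap a b))

omit s in
theorem TP.symm {y : SymG R T M D (o2 R) Rel k m} {i : Fin k} {a b : Fin (2 ^ m + 1)} (h1 : y.TP i a b) :
    y.TP i b a := by
  obtain ⟨h1, t, ht, h2⟩ := h1
  exact ⟨h1.symm, t, ht, by rw [Equiv.swap_comm]; exact h2⟩

omit s [Finite G] in
theorem TP.ne_zero {y : SymG R T M D (o2 R) Rel k m} {i : Fin k} {a b : Fin (2 ^ m + 1)} (h1 : y.TP i a b) :
    a ≠ 0 ∧ b ≠ 0 := by
  obtain ⟨h1, t, ht, h2⟩ := h1
  have h3 := y.fix0 t ht _ _ h2 i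
  rw [ud_same] at h3
  constructor
  · rintro rfl
    rw [Equiv.swap_apply_left] at h3
    exact h1 h3.symm
  · rintro rfl
    rw [Equiv.swap_apply_right] at h3
    exact h1 h3

/-- the pairs of `T` are disjoint -/
theorem tp_unique (hm : 2 ≤ m) {i : Fin k} {a b c : Fin (2 ^ m + 1)} (h1 : y.TP i a b) (h2 : y.TP i a c) : b = c := by
  by_contra hbc
  obtain ⟨hab, t, ht, h3⟩ := h1
  obtain ⟨hac, t', ht', h4⟩ := h2
  have h5 := h3.mul1 s.RM h4 (s.TR ht')
  rw [ud_mul] at h5
  obtain ⟨n, hn⟩ := s.two ⟨t * t', mul_mem ht ht'⟩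
  have hn' : (t * t') ^ 2 ^ n = 1 := congrArg Subtype.val hn
  have h7 := h5.pow s.RM (mul_mem (s.TR ht) (s.TR ht')) (2 ^ n)
  rw [ud_pow, hn'] at h7
  have h9 := y.eq_one s hm h7 (fun v _ => by simp [one_mem]) (one_mem _)
  have h10 := (Equiv.Perm.isThreeCycle_swap_mul_swap_same hab hac hbc).orderOf
  have h11 := orderOf_dvd_of_pow_eq_one h9
  rw [h10] at h11
  have h12 := Nat.Prime.dvd_of_dvd_pow Nat.prime_three h11
  omega

/-- conjugation of pairs -/
theorem tp_conj {i : Fin k} {a b : Fin (2 ^ m + 1)} (h1 : y.TP i a b) {t : G} (ht : t ∈ T)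
    {σ : Equiv.Perm (Fin k)} {τ : Fin k → Equiv.Perm (Fin (2 ^ m + 1))} (h2 : ActP y.e M t σ τ) :
    y.TP (σ i) (τ i a) (τ i b) := by
  obtain ⟨h1, t', ht', h3⟩ := h1
  refine ⟨fun h0 => h1 ((τ i).injective h0), t * t' * t⁻¹, mul_mem (mul_mem ht ht') (inv_mem ht), ?_⟩
  rw [Equiv.swap_apply_apply]
  exact h2.conj s.RM (s.TR ht) h3 (s.TR ht')

/-- the pairs of `T` in different position have disjoint supports -/
theorem pv_zero (hm : 2 ≤ m) {i j : Fin k} {a b c d : Fin (2 ^ m + 1)} (h1 : y.TP i a b) (h2 : y.TP j c d)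
    (hne : pv i a b ≠ pv j c d) : pv j c d i a = 0 := by
  rw [pv_apply]
  by_cases hij : i = j
  · subst hij
    rw [if_pos rfl]
    by_cases e1 : a = c
    · subst e1
      exact absurd (by rw [y.tp_unique s hm h1 h2]) hne
    · by_cases e2 : a = d
      · subst e2
        exact absurd (by rw [y.tp_unique s hm h1 h2.symm, pv_comm]) hne
      · rw [if_neg e1, if_neg e2, add_zero]
  · rw [if_neg hij]

/-- **Two pairs of `T` in a block.** -/
theorem exists_two (hm : 2 ≤ m) (j : Fin k) : ∃ a b c d, y.TP j a b ∧ y.TP j c d ∧ c ≠ a ∧ c ≠ b := by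
  have h5 : 4 ≤ 2 ^ m := by
    calc 4 = 2 ^ 2 := by norm_num
      _ ≤ 2 ^ m := Nat.pow_le_pow_right (by norm_num) hm
  -- four letters
  let a : Fin (2 ^ m + 1) := ⟨0, by omega⟩
  let b : Fin (2 ^ m + 1) := ⟨1, by omega⟩
  let c : Fin (2 ^ m + 1) := ⟨2, by omega⟩
  let d : Fin (2 ^ m + 1) := ⟨3, by omega⟩
  have hab : a ≠ b := by simp [a, b]
  have hcd : c ≠ d := by simp [c, d]
  have hac : a ≠ c := by simp [a, c]
  have had : a ≠ d := by simp [a, d]
  have hbc : b ≠ c := by simp [b, c]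
  have hbd : b ≠ d := by simp [b, d]
  obtain ⟨g1, hg1, h1⟩ := y.lift (ud j (Equiv.swap a b))
  obtain ⟨g2, hg2, h2⟩ := y.lift (ud j (Equiv.swap c d))
  -- the swaps commute
  have hcomm : Equiv.swap a b * Equiv.swap c d = Equiv.swap c d * Equiv.swap a b := by
    have h3 := Equiv.swap_apply_apply (Equiv.swap a b) c d
    rw [Equiv.swap_apply_of_ne_of_ne hac.symm hbc.symm, Equiv.swap_apply_of_ne_of_ne had.symm hbd.symm] at h3
    rw [eq_mul_inv_iff_mul_eq] at h3
    exact h3.symm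
  have hsq : ∀ a b : Fin (2 ^ m + 1), Equiv.swap a b * Equiv.swap a b = 1 := fun a b => Equiv.swap_mul_self a b
  let K : Subgroup G := closure {g1, g2}
  have hKR : K ≤ R := by
    rw [closure_le]
    rintro x (rfl | rfl)
    · exact hg1
    · exact hg2
  -- the permutations of `K`
  have hK : ∀ g ∈ K, ∃ π : Equiv.Perm (Fin (2 ^ m + 1)),
      π ∈ ({1, Equiv.swap a b, Equiv.swap c d, Equiv.swap a b * Equiv.swap c d} : Set (Equiv.Perm (Fin (2 ^ m + 1)))) ∧
        ActP y.e M g 1 (ud j π) := by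
    let W : Subgroup (Equiv.Perm (Fin (2 ^ m + 1))) :=
      { carrier := {1, Equiv.swap a b, Equiv.swap c d, Equiv.swap a b * Equiv.swap c d}
        one_mem' := Or.inl rfl
        mul_mem' := by
          have e1 : Equiv.swap a b * (Equiv.swap a b * Equiv.swap c d) = Equiv.swap c d := by
            rw [← mul_assoc, hsq, one_mul]
          have e2 : Equiv.swap c d * (Equiv.swap a b * Equiv.swap c d) = Equiv.swap a b := by
            rw [hcomm, ← mul_assoc, hsq, one_mul]
          have e3 : Equiv.swap a b * Equiv.swap c d * Equiv.swap a b = Equiv.swap c d := by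
            rw [hcomm, mul_assoc, hsq, mul_one]
          have e4 : Equiv.swap a b * Equiv.swap c d * Equiv.swap c d = Equiv.swap a b := by
            rw [mul_assoc, hsq, mul_one]
          have e5 : Equiv.swap a b * Equiv.swap c d * (Equiv.swap a b * Equiv.swap c d) = 1 := by
            rw [mul_assoc, e2, hsq]
          rintro x z (rfl | rfl | rfl | rfl) (rfl | rfl | rfl | rfl)
          all_goals first
            | (rw [one_mul]; simp)
            | (rw [mul_one]; simp)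
            | (rw [hsq]; simp)
            | (rw [e1]; simp)
            | (rw [e2]; simp)
            | (rw [e3]; simp)
            | (rw [e4]; simp)
            | (rw [e5]; simp)
            | (rw [← hcomm]; simp)
            | simp
        inv_mem' := by
          rintro x (rfl | rfl | rfl | rfl)
          · simp
          · rw [Equiv.swap_inv]; simp
          · rw [Equiv.swap_inv]; simp
          · rw [mul_inv_rev, Equiv.swap_inv, Equiv.swap_inv, ← hcomm]; simp }
    intro g hg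
    induction hg using closure_induction with
    | mem x hx =>
      rcases hx with rfl | rfl
      · exact ⟨_, Or.inr (Or.inl rfl), h1⟩
      · exact ⟨_, Or.inr (Or.inr (Or.inl rfl)), h2⟩
    | one => exact ⟨1, Or.inl rfl, by
        rw [ud_one]
        exact ActP.one⟩
    | mul x z hx hz ih1 ih2 =>
      obtain ⟨π, h3, h4⟩ := ih1
      obtain ⟨ρ, h6, h7⟩ := ih2
      refine ⟨π * ρ, W.mul_mem h3 h6, ?_⟩
      have h8 := h4.mul1 s.RM h7 (hKR hz)
      rwa [ud_mul] at h8
    | inv x hx ih =>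
      obtain ⟨π, h3, h4⟩ := ih
      refine ⟨π⁻¹, W.inv_mem h3, ?_⟩
      have h8 := h4.inv1 s.RM (hKR hx)
      rwa [ud_inv] at h8
  have hK2 : ∀ g ∈ K, ∃ n : ℕ, ∀ v ∈ M, g ^ 2 ^ n * v * (g ^ 2 ^ n)⁻¹ * v⁻¹ ∈ D := by
    intro g hg
    obtain ⟨π, h3, h4⟩ := hK g hg
    have h6 : π ^ 2 = 1 := by
      rw [sq]
      rcases h3 with rfl | rfl | rfl | rfl
      · rw [one_mul]
      · exact hsq _ _
      · exact hsq _ _
      · have e2 : Equiv.swap c d * (Equiv.swap a b * Equiv.swap c d) = Equiv.swap a b := by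
          rw [hcomm, ← mul_assoc, hsq, one_mul]
        rw [mul_assoc, e2, hsq]
    refine ⟨1, fun v hv => ?_⟩
    rw [pow_one, ← y.e_eq s (s.conjM (pow_mem (hKR hg) 2) hv) hv]
    have h7 := h4.pow s.RM (hKR hg) 2
    rw [ud_pow, h6, ud_one] at h7
    funext i x
    exact h7 v hv i x
  obtain ⟨x, hxR, hx⟩ := y.syl K hKR hK2
  obtain ⟨σ, τ, h3⟩ := y.perm x hxR
  have key : ∀ g ∈ K, ∀ p q : Fin (2 ^ m + 1), p ≠ q → g ∈ R → ActP y.e M g 1 (ud j (Equiv.swap p q)) →
      y.TP (σ j) (τ j p) (τ j q) := by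
    intro g hg p q hpq hgR h4
    obtain ⟨t, ht, h6⟩ := hx g hg
    refine ⟨fun h0 => hpq ((τ j).injective h0), t, ht, ?_⟩
    have h7 := h3.conj s.RM hxR h4 hgR
    rw [Equiv.swap_apply_apply]
    intro v hv i z
    rw [← h7 v hv i z]
    have h8 := (y.e_eq s (s.conjM (mul_mem (mul_mem hxR hgR) (inv_mem hxR)) hv) (s.conjM (s.TR ht) hv)).2 (h6 v hv)
    rw [h8]
  have h4 := key g1 (subset_closure (Or.inl rfl)) a b hab hg1 h1
  have h6 := key g2 (subset_closure (Or.inr rfl)) c d hcd hg2 h2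
  obtain ⟨t, ht, σ', τ', h7, h8⟩ := y.trans (σ j) j
  have h9 := y.tp_conj s h4 ht h7
  have h10 := y.tp_conj s h6 ht h7
  rw [h8] at h9 h10
  refine ⟨_, _, _, _, h9, h10, ?_, ?_⟩
  · exact fun h0 => hac.symm ((τ j).injective ((τ' (σ j)).injective h0))
  · exact fun h0 => hbc.symm ((τ j).injective ((τ' (σ j)).injective h0))

end SymG

end Cfsg.Agent.Omega.NO3S.SN2.FF
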