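import Cfsg.Agent.Omega.NO3S.SN2.FF.SymC
import Cfsg.Agent.Omega.NO3S.SN2.FF.XThree

/-!
# The FF step: the even-subset case, the pairs of `T` are in `V`
-/

set_option autoImplicit false
set_option linter.unusedSectionVars false

namespace Cfsg.Agent.Omega.NO3S.SN2.FF

open Subgroup Cfsg Cfsg.Agent.ZN Cfsg.Agent.Omega.FFBr
open Cfsg.Agent.MinSimple.VModule

universe u

theorem pv_tri {k n : ℕ} (i : Fin k) (a b c : Fin n) : pv i a b + pv i b c = pv i a c := by
  funext j z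
  simp only [Pi.add_apply, pv_apply]
  by_cases h : j = i
  · rw [if_pos h, if_pos h, if_pos h]
    generalize (if z = a then (1 : ZMod 2) else 0) = x
    generalize (if z = b then (1 : ZMod 2) else 0) = y
    generalize (if z = c then (1 : ZMod 2) else 0) = w
    revert x y w
    decide
  · rw [if_neg h, if_neg h, if_neg h, add_zero]

theorem ActP.congr {G : Type*} [Group G] {k n : ℕ} {e : G → Fin k → Fin n → ZMod 2} {M : Subgroup G} {g v w : G}
    {σ : Equiv.Perm (Fin k)} {τ : Fin k → Equiv.Perm (Fin n)} (h : ActP e M g σ τ) (hv : v ∈ M) (hw : w ∈ M)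
    (he : e v = e w) : e (g * v * g⁻¹) = e (g * w * g⁻¹) := by
  funext j z
  obtain ⟨j, rfl⟩ := σ.surjective j
  obtain ⟨z, rfl⟩ := (τ j).surjective z
  rw [h v hv, h w hw, he]

variable {G : Type u} [Group G] [Finite G] {V Q T R M0 D E M : Subgroup G} {h : G} {Rel : Set (Subgroup G)}

namespace SymG

variable {k m : ℕ} (y : SymG R T M D (o2 R) Rel k m) (s : Stp V Q T R M0 D E M h Rel)
  (hex : ∀ B ∈ Rel, ∀ u ∈ M, (∀ b ∈ B, b * u * b⁻¹ * u⁻¹ ∈ D) → ∀ b ∈ B, b * u = u * b)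

include s hex in
/-- the pairs of `T` are centralised by `Rel` -/
theorem cent (hm : 2 ≤ m) {i : Fin k} {a b : Fin (2 ^ m + 1)} (h1 : y.TP i a b) {v : G} (hv : v ∈ M)
    (he : y.e v = pv i a b) : ∀ B ∈ Rel, ∀ b ∈ B, b * v = v * b := by
  intro B hB
  refine hex B hB v hv fun c hc => ?_
  have hcR : c ∈ R := s.TR (s.QT (s.relQ B hB hc))
  by_cases hBo : B ≤ o2 R
  · exact (s.o2_le_KR (hBo hc)).2 v hv
  · obtain ⟨τ, h2, h3⟩ := y.off B hB hBo c hc
    rw [← y.e_eq s (s.conjM hcR hv) hv, h2.pv hv he, he]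
    have h4 : ∀ x, τ i x ≠ x → y.TP i x (τ i x) ∧ τ i (τ i x) = x := by
      intro x hx
      obtain ⟨h5, b', hb', h6⟩ := h3 i x hx
      exact ⟨⟨hx.symm, b', s.QT (s.relQ B hB hb'), h6⟩, h5⟩
    have h7 : (1 : Equiv.Perm (Fin k)) i = i := rfl
    rw [h7]
    by_cases ha : τ i a = a
    · by_cases hb : τ i b = b
      · rw [ha, hb]
      · exfalso
        obtain ⟨h5, -⟩ := h4 b hb
        have h6 := y.tp_unique s hm h5 h1.symm
        exact h1.1 ((τ i).injective (ha.trans h6.symm))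
    · obtain ⟨h5, h6⟩ := h4 a ha
      have h8 := y.tp_unique s hm h5 h1
      rw [h8] at h6 ⊢
      rw [h6, pv_comm]

include s in
/-- `Q` acts on a pair of `T` -/
theorem actQ {i : Fin k} {a b : Fin (2 ^ m + 1)} (h1 : y.TP i a b) {v : G} (hv : v ∈ M)
    (he : y.e v = pv i a b) {q : G} (hq : q ∈ T) : ∃ i' a' b', y.TP i' a' b' ∧ y.e (q * v * q⁻¹) = pv i' a' b' := by
  obtain ⟨σ, τ, h2⟩ := y.perm q (s.TR hq)
  exact ⟨_, _, _, y.tp_conj s h1 hq h2, h2.pv hv he⟩

include s hex in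
/-- **The pairs of `T` are in `V`.** -/
theorem memV (hm : 2 ≤ m) {i : Fin k} {a b : Fin (2 ^ m + 1)} (h1 : y.TP i a b) {v : G} (hv : v ∈ M)
    (he : y.e v = pv i a b) : v ∈ V := by
  rcases s.lemY v hv (y.cent s hex hm h1 hv he) with h2 | h2
  · exact h2
  exfalso
  have hVM : V ≤ M := by
    intro w hw
    obtain ⟨q, hq, h3⟩ := h2 w hw
    have h4 : w = q * v * q⁻¹ * v⁻¹ := by rw [h3, mul_inv_cancel_right]
    rw [h4]
    exact mul_mem (s.conjM (s.TR (s.QT hq)) hv) (inv_mem hv)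
  -- the vectors of `V`
  have key : ∀ w ∈ V, ∃ i' a' b', y.TP i' a' b' ∧ y.e w = pv i' a' b' + pv i a b := by
    intro w hw
    obtain ⟨q, hq, h3⟩ := h2 w hw
    obtain ⟨i', a', b', h4, h5⟩ := y.actQ s h1 hv he (s.QT hq)
    refine ⟨i', a', b', h4, ?_⟩
    rw [h3, y.mul w (hVM hw) v hv, he] at h5
    rw [← h5, add_assoc, z2f, add_zero]
  have hab := h1.1
  obtain ⟨j, c, d, h4, h5⟩ := key h s.hV
  have hh0 : y.e h ≠ 0 := fun h0 => s.hD ((y.ker h s.hM).1 h0)
  have hne : pv i a b ≠ pv j c d := fun h0 => hh0 (by rw [h5, ← h0, z2f])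
  have hz1 := y.pv_zero s hm h1 h4 hne
  have h6 : ∀ w ∈ V, w ∈ D ∨ w * h⁻¹ ∈ D := by
    intro w hw
    by_contra hcon
    push Not at hcon
    obtain ⟨j', c', d', h7, h8⟩ := key w hw
    have hw0 : y.e w ≠ 0 := fun h0 => hcon.1 ((y.ker w (hVM hw)).1 h0)
    have hwh : y.e w ≠ y.e h := fun h0 => hcon.2 ((y.e_eq s (hVM hw) s.hM).1 h0)
    have hne' : pv i a b ≠ pv j' c' d' := fun h0 => hw0 (by rw [h8, ← h0, z2f])
    have hz2 := y.pv_zero s hm h1 h7 hne'
    obtain ⟨j'', c'', d'', h9, h10⟩ := key (w * h) (mul_mem hw s.hV)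
    have h11 : y.e (w * h) = pv j' c' d' + pv j c d := by
      rw [y.mul w (hVM hw) h s.hM, h8, h5]
      have : pv j' c' d' + pv i a b + (pv j c d + pv i a b) =
        pv j' c' d' + pv j c d + (pv i a b + pv i a b) := by abel
      rw [this, z2f, add_zero]
    rw [h11] at h10
    have h12 := congrFun (congrFun h10 i) a
    simp only [Pi.add_apply] at h12
    rw [hz1, hz2, pv_left hab] at h12
    by_cases h13 : pv i a b = pv j'' c'' d''
    · rw [← h13, z2f, z2eq] at h10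
      exact hwh (by rw [h8, h5, h10])
    · rw [y.pv_zero s hm h1 h9 h13] at h12
      exact absurd h12 (by decide)
  -- `T` is trivial on `V / D`
  have h7 : ∀ t ∈ T, ∀ w ∈ V, t * w * t⁻¹ * w⁻¹ ∈ D := by
    intro t ht w hw
    rcases h6 w hw with h8 | h8
    · rw [s.conjD (s.TR ht) h8, mul_inv_cancel]
      exact one_mem _
    · have h9 := s.comm_eq (s.TR ht) s.hM (hVM hw) h8
      rw [← h9]
      exact s.hT t ht
  -- `D ≤ E`
  have hDE : D ≤ E := by
    intro d0 hd0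
    obtain ⟨q, hq, h8⟩ := h2 d0 (s.DV hd0)
    have hqR := s.TR (s.QT hq)
    have hqv : q * v * q⁻¹ * v⁻¹ = d0 := by rw [h8, mul_inv_cancel_right]
    obtain ⟨σ, τ, h9⟩ := y.perm q hqR
    have h10 : pv (σ i) (τ i a) (τ i b) = pv i a b := by
      rw [← h9.pv hv he, ← he]
      exact (y.e_eq s (s.conjM hqR hv) hv).2 (by rw [hqv]; exact hd0)
    obtain ⟨hσ, hτ⟩ := pv_eq (fun h0 => hab ((τ i).injective h0)) h10
    have h0' := y.fix0 q (s.QT hq) σ τ h9 i
    obtain ⟨ha0, hb0⟩ := h1.ne_zero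
    -- the 3-cycle
    set π : Equiv.Perm (Fin (2 ^ m + 1)) := Equiv.swap 0 a * Equiv.swap 0 b with hπ
    have hπ3 : π ^ 3 = 1 := by
      have h11 := (Equiv.Perm.isThreeCycle_swap_mul_swap_same ha0.symm hb0.symm hab).orderOf
      rw [← hπ] at h11
      rw [← h11, pow_orderOf_eq_one]
    have hπ' : Equiv.swap 0 b * Equiv.swap 0 a = π ^ 2 := by
      have h11 : (Equiv.swap 0 b * Equiv.swap 0 a) * π = 1 := by
        rw [hπ, mul_assoc, ← mul_assoc (Equiv.swap 0 a) (Equiv.swap 0 a), Equiv.swap_mul_self, one_mul,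
          Equiv.swap_mul_self]
      have h12 : π ^ 2 * π = 1 := by rw [← pow_succ]; exact hπ3
      exact mul_right_cancel (h11.trans h12.symm)
    obtain ⟨x, hx, h11⟩ := y.lift (ud i π)
    -- `q x q⁻¹`
    have h12 := h9.conj s.RM hqR h11 hx
    have hσi : σ i = i := hσ
    rw [hσi] at h12
    have hsim : ∀ {g g' : G} {τ : Fin k → Equiv.Perm (Fin (2 ^ m + 1))}, g ∈ R → g' ∈ R → ActP y.e M g 1 τ →
        ActP y.e M g' 1 τ → Sim D M g g' := by
      intro g g' τ hg hg' h13 h14 v hv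
      rw [← y.e_eq s (s.conjM hg hv) (s.conjM hg' hv)]
      funext j z
      obtain ⟨z, rfl⟩ := (τ j).surjective z
      have h15 := h13 v hv j z
      have h16 := h14 v hv j z
      exact h15.trans h16.symm
    have hyR : q * x * q⁻¹ ∈ R := mul_mem (mul_mem hqR hx) (inv_mem hqR)
    have hx2 := h11.pow s.RM hx 2
    rw [ud_pow] at hx2
    have hy2 := h12.pow s.RM hyR 2
    have hconj : τ i * π * (τ i)⁻¹ = Equiv.swap 0 (τ i a) * Equiv.swap 0 (τ i b) := by
      have e1 := Equiv.swap_apply_apply (τ i) 0 a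
      have e2 := Equiv.swap_apply_apply (τ i) 0 b
      rw [h0'] at e1 e2
      rw [e1, e2, hπ]
      group
    have h13 : (Sim D M (q * x * q⁻¹) x ∧ Sim D M ((q * x * q⁻¹) ^ 2) (x ^ 2)) ∨
        (Sim D M (q * x * q⁻¹) (x ^ 2) ∧ Sim D M ((q * x * q⁻¹) ^ 2) x) := by
      rcases hτ with ⟨e1, e2⟩ | ⟨e1, e2⟩
      · left
        rw [hconj, e1, e2, ← hπ] at h12 hy2
        refine ⟨hsim hyR hx h12 h11, hsim (pow_mem hyR 2) (pow_mem hx 2) hy2 ?_⟩
        exact h11.pow s.RM hx 2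
      · right
        rw [hconj, e1, e2, hπ'] at h12 hy2
        refine ⟨hsim hyR (pow_mem hx 2) h12 hx2, hsim (pow_mem hyR 2) hx hy2 ?_⟩
        have e3 : (ud i (π ^ 2)) ^ 2 = ud i π := by
          rw [ud_pow, ← pow_mul, show 2 * 2 = 3 + 1 by norm_num, pow_add, hπ3, one_mul, pow_one]
        rw [show (Function.update 1 i (π ^ 2) : Fin k → Equiv.Perm (Fin (2 ^ m + 1))) ^ 2 = ud i π from e3]
        exact h11
    have h14 := s.x3 hx hqR (s.qh hq) h13
    -- `u'`
    have hA' : x * h * x⁻¹ ∈ M := s.conjM hx s.hM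
    have hB' : x ^ 2 * h * (x ^ 2)⁻¹ ∈ M := s.conjM (pow_mem hx 2) s.hM
    have hπa : π a = 0 := by
      rw [hπ, Equiv.Perm.mul_apply, Equiv.swap_apply_of_ne_of_ne ha0 hab, Equiv.swap_apply_right]
    have hπb : π b = a := by
      rw [hπ, Equiv.Perm.mul_apply, Equiv.swap_apply_right, Equiv.swap_apply_left]
    have hπ0 : π 0 = b := by
      rw [hπ, Equiv.Perm.mul_apply, Equiv.swap_apply_left, Equiv.swap_apply_of_ne_of_ne hb0 hab.symm]
    have hz2 := y.pv_zero s hm h1.symm h4 (by rw [pv_comm]; exact hne)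
    obtain ⟨hc0, hd0'⟩ := h4.ne_zero
    have hfixc : ud i π j c = c ∧ ud i π j d = d := by
      by_cases hji : j = i
      · subst hji
        rw [ud_same]
        have c1 : c ≠ a := by
          rintro rfl
          rw [pv_left h4.1] at hz1
          exact one_ne_zero hz1
        have c2 : c ≠ b := by
          rintro rfl
          rw [pv_left h4.1] at hz2
          exact one_ne_zero hz2
        have d1 : d ≠ a := by
          rintro rfl
          rw [pv_comm, pv_left h4.1.symm] at hz1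
          exact one_ne_zero hz1
        have d2 : d ≠ b := by
          rintro rfl
          rw [pv_comm, pv_left h4.1.symm] at hz2
          exact one_ne_zero hz2
        constructor
        · rw [hπ, Equiv.Perm.mul_apply, Equiv.swap_apply_of_ne_of_ne hc0 c2, Equiv.swap_apply_of_ne_of_ne hc0 c1]
        · rw [hπ, Equiv.Perm.mul_apply, Equiv.swap_apply_of_ne_of_ne hd0' d2, Equiv.swap_apply_of_ne_of_ne hd0' d1]
      · rw [ud_ne hji]
        exact ⟨rfl, rfl⟩
    obtain ⟨v', hv', he'⟩ := y.surj (pv j c d) (pv_even j c d)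
    have heh : y.e h = y.e (v' * v) := by rw [h5, y.mul v' hv' v hv, he, he']
    have hact : ∀ g ∈ R, ActP y.e M g 1 (ud i π) → y.e (g * h * g⁻¹) = pv j c d + pv i 0 a := by
      intro g hg h15
      rw [h15.congr s.hM (mul_mem hv' hv) heh]
      have e1 : g * (v' * v) * g⁻¹ = (g * v' * g⁻¹) * (g * v * g⁻¹) := by group
      rw [e1, y.mul _ (s.conjM hg hv') _ (s.conjM hg hv), h15.pv hv' he', h15.pv hv he, ud_same, hπa, hπb]
      have e2 : pv ((1 : Equiv.Perm (Fin k)) j) (ud i π j c) (ud i π j d) = pv j c d := by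
        rw [hfixc.1, hfixc.2]; rfl
      rw [e2]
      rfl
    have hw1 : y.e (x * h * x⁻¹) = pv j c d + pv i 0 a := hact x hx h11
    have hw2 : y.e (x ^ 2 * h * (x ^ 2)⁻¹) = pv j c d + pv i b 0 := by
      have h15 := h11
      obtain ⟨w0, hw0, hew0⟩ := y.surj (pv i 0 a) (pv_even i 0 a)
      have e1 : x ^ 2 * h * (x ^ 2)⁻¹ = x * (x * h * x⁻¹) * x⁻¹ := by rw [sq]; group
      have e2 : y.e (x * h * x⁻¹) = y.e (v' * w0) := by rw [hw1, y.mul v' hv' w0 hw0, he', hew0]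
      rw [e1, h15.congr hA' (mul_mem hv' hw0) e2]
      have e3 : x * (v' * w0) * x⁻¹ = (x * v' * x⁻¹) * (x * w0 * x⁻¹) := by group
      rw [e3, y.mul _ (s.conjM hx hv') _ (s.conjM hx hw0), h15.pv hv' he', h15.pv hw0 hew0, ud_same, hπa, hπ0]
      have e4 : pv ((1 : Equiv.Perm (Fin k)) j) (ud i π j c) (ud i π j d) = pv j c d := by
        rw [hfixc.1, hfixc.2]; rfl
      rw [e4]
      rfl
    have h15 : y.e ((x * h * x⁻¹) * (x ^ 2 * h * (x ^ 2)⁻¹)) = y.e v := by
      rw [y.mul _ hA' _ hB', hw1, hw2, he]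
      have e5 : pv j c d + pv i 0 a + (pv j c d + pv i b 0) = (pv j c d + pv j c d) + (pv i b 0 + pv i 0 a) := by abel
      rw [e5, z2f, zero_add, pv_tri, pv_comm]
    have h16 := (y.e_eq s (mul_mem hA' hB') hv).1 h15
    have h17 := s.comm_eq hqR hv (mul_mem hA' hB') h16
    rw [hqv] at h17
    rw [h17]
    exact h14
  obtain ⟨a1, ha1, b1, hb1, w, hw, h8⟩ := s.na hDE
  apply h8
  exact h7 _ (mul_mem (mul_mem (mul_mem ha1 hb1) (inv_mem ha1)) (inv_mem hb1)) w hw

end SymG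

end Cfsg.Agent.Omega.NO3S.SN2.FF
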